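import Cfsg.Agent.H57.Walter.LayerThree
import Cfsg.Agent.H88.Walter.Data
import Cfsg.Agent.H29.Walter.PslAction
import Cfsg.Agent.H36.GW.Shape
import Cfsg.Agent.H35.JT.PSL
import Cfsg.Agent.H58.CI.Fusion
import Cfsg.Agent.S0252
import Cfsg.Agent.S0253

/-!
# Walter programme, rank three: the layers of the maximal subgroups in Case II

`f ∈ O_r(M) ∩ C(v)` has `[f, t] ∈ O(C(v))` for involutions `v ∉ ⟨t⟩` of `S`; hence `[O_r(M), t]`
centralises the layer of every maximal subgroup over `S` and `F(M)`, which is therefore in `M`.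
-/

set_option autoImplicit false
set_option linter.unusedSectionVars false
set_option linter.style.haveILetI false

namespace Cfsg.Agent.H57.Walter

open Subgroup Cfsg.Agent
open Cfsg.Agent.H10.Walter (AbSyl Bar coreAt IsOddPSL Shape)
open Cfsg.Agent.H77.Walter (Three toBar)
open Cfsg.Agent.Components (layerIn pCoreIn isPGroup_pCoreIn)
open Cfsg.Agent.H77.GW (Moves)
open scoped commutatorElement

universe u

/-- An element acting trivially on every component modulo the odd core centralises the layer. -/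
theorem commute_layer_of_bar {Y : Type u} [Group Y] [Finite Y] (w : Y)
    (h : ∀ L : Subgroup (Y ⧸ Cfsg.oddCore Y), Cfsg.IsComponent L →
      QuotientGroup.mk' (Cfsg.oddCore Y) w ∈ centralizer (L : Set (Y ⧸ Cfsg.oddCore Y))) :
    ∀ x ∈ Cfsg.layer Y, Commute w x := by
  set f := QuotientGroup.mk' (Cfsg.oddCore Y) with hf
  have hle : (Cfsg.layer Y).map f ≤ centralizer ({f w} : Set (Y ⧸ Cfsg.oddCore Y)) := by
    rw [Subgroup.map_le_iff_le_comap]
    refine Components.layer_le_iff.mpr fun K hK => Subgroup.map_le_iff_le_comap.1 ?_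
    by_cases hb : K.map f = ⊥
    · rw [hb]; exact bot_le
    haveI : Nontrivial ↥(K.map f) := (Subgroup.nontrivial_iff_ne_bot _).mpr hb
    have hKb : Cfsg.IsComponent (K.map f) :=
      ⟨hK.1.map (QuotientGroup.mk'_surjective _),
        Components.qs_of_surjective hK.2 (f.subgroupMap K) (f.subgroupMap_surjective K)⟩
    intro y hy
    exact mem_centralizer_singleton_iff.2 (mem_centralizer_iff.1 (h _ hKb) y hy)
  have hmem : ∀ x ∈ Cfsg.layer Y, ⁅w, x⁆ ∈ Cfsg.oddCore Y := by
    intro x hx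
    rw [← QuotientGroup.eq_one_iff, ← QuotientGroup.mk'_apply, map_commutatorElement,
      commutatorElement_eq_one_iff_commute]
    exact (mem_centralizer_singleton_iff.1 (hle ⟨x, hx, rfl⟩)).symm
  let φ : ↥(Cfsg.layer Y) →* ↥(Cfsg.oddCore Y) :=
    { toFun := fun x => ⟨⁅w, (x : Y)⁆, hmem x x.2⟩
      map_one' := Subtype.ext (by simp)
      map_mul' := fun a b => Subtype.ext (by
        have hb := H36.GW.layer_commute_oddCore a.2 (hmem b b.2)
        show ⁅w, (a : Y) * b⁆ = ⁅w, (a : Y)⁆ * ⁅w, (b : Y)⁆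
        calc ⁅w, (a : Y) * b⁆ = ⁅w, (a : Y)⁆ * ((a : Y) * ⁅w, (b : Y)⁆ * (a : Y)⁻¹) := by
              simp only [commutatorElement_def]; group
          _ = _ := by rw [hb.eq, mul_inv_cancel_right]) }
  intro x hx
  have hφ : φ.range = ⊥ := by
    by_contra hb
    haveI : Nontrivial ↥φ.range := (Subgroup.nontrivial_iff_ne_bot _).mpr hb
    haveI : Group.IsPerfect ↥φ.range := Group.IsPerfect.ofSurjective φ.rangeRestrict_surjective
    haveI : Group.IsSolvable ↥(Cfsg.oddCore Y) := S0205.result Cores.odd_card_oddCore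
    exact Group.IsPerfect.not_isSolvable ↥φ.range inferInstance
  have h1 : φ ⟨x, hx⟩ ∈ φ.range := ⟨_, rfl⟩
  rw [hφ, mem_bot] at h1
  exact commutatorElement_eq_one_iff_commute.1 (congrArg Subtype.val h1)

/-- A shape with a Sylow `2`-subgroup of order four is an odd `PSL₂`. -/
theorem isOddPSL_of_four {L : Type u} [Group L] [Finite L] (h : Shape L) (P : Sylow 2 L)
    (h4 : Nat.card ↥(P : Subgroup L) = 4) : IsOddPSL L := by
  haveI : Fact (Nat.Prime 2) := ⟨Nat.prime_two⟩
  rcases h with ⟨F, _, _, n, hn, hc, ⟨e⟩⟩ | h' | ⟨h8, -⟩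
  · haveI := H58.CI.charP_two_of_pow hc
    have hn2 : n = 2 := by
      have hcard := P.card_eq_multiplicity
      rw [h4, Nat.card_congr e.toEquiv, H62.PU.psl_card F, hc,
        Nat.factorization_mul (by positivity) (by
          have := Nat.one_lt_pow (show 2 ≠ 0 by norm_num) (Nat.one_lt_two_pow (show n ≠ 0 by omega))
          omega), Finsupp.add_apply, Nat.Prime.factorization_pow Nat.prime_two,
        Finsupp.single_eq_same, Nat.factorization_eq_zero_of_not_dvd (fun hd => ?_), add_zero] at hcard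
      · exact (Nat.pow_right_injective le_rfl (hcard.symm.trans (by norm_num : (4 : ℕ) = 2 ^ 2)))
      · have h2 : 2 ∣ (2 ^ n) ^ 2 := dvd_pow (dvd_pow_self 2 (by omega)) (by norm_num)
        have h3 : 1 ≤ (2 ^ n) ^ 2 := Nat.one_le_pow _ _ (by positivity)
        omega
    subst hn2
    haveI : Fact (Nat.Prime 5) := ⟨by norm_num⟩
    obtain ⟨e4⟩ := S0252.result (F := F) (by rw [hc]; norm_num)
    obtain ⟨e5⟩ := S0253.result (F := ZMod 5) (ZMod.card 5)
    exact ⟨ZMod 5, inferInstance, inferInstance, by rw [ZMod.card], by rw [ZMod.card]; norm_num,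
      ⟨e.trans (e4.trans e5.symm)⟩⟩
  · exact h'
  · have := h8 P
    omega

variable {G : Type u} [Group G] [Finite G] {S : Sylow 2 G}

/-- No two elements of `S` agree modulo the odd core of a subgroup over them. -/
theorem eq_one_of_bar (hT : Three S) {H : Subgroup G} {r : G} (hrS : r ∈ (S : Subgroup G))
    (hr : r ∈ H) (h : toBar H ⟨r, hr⟩ = 1) : r = 1 := by
  by_contra hr1
  have h' := (Cores.odd_card_oddCore (G := ↥H)).of_dvd_nat
    (Subgroup.orderOf_dvd_natCard _ ((QuotientGroup.eq_one_iff _).1 h))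
  rw [Subgroup.orderOf_mk, orderOf_eq_two hT hrS hr1] at h'
  exact absurd h' (by decide)

/-- `[O_r(M) ∩ C(v), t] ≤ O(C(v))`. -/
theorem commutator_mem_coreAt (hT : Three S) {t v : G} (htS : t ∈ (S : Subgroup G))
    (hvS : v ∈ (S : Subgroup G)) (ht1 : t ≠ 1) (hv1 : v ≠ 1) (htv : t ≠ v) {M : Subgroup G}
    (hCt : centralizer ({t} : Set G) ≤ M) {R : Subgroup G} (hR : Odd (Nat.card R))
    (hMR : M ≤ normalizer (R : Set G)) {f : G} (hf : f ∈ R) (hfv : Commute f v) :
    ⁅f, t⁆ ∈ coreAt v := by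
  haveI : Fact (Nat.Prime 2) := ⟨Nat.prime_two⟩
  set C := centralizer ({v} : Set G) with hC
  obtain ⟨L, hPSL, hn, -, -, hproj, -⟩ := bar_facts hT hvS hv1
  have hcS : ∀ {r : G}, r ∈ (S : Subgroup G) → r ∈ C := mem_centralizer_of_sylow hT hvS
  -- the parts in `L` are images of elements of `S`
  have hpart : ∀ s ∈ (S : Subgroup G), ∃ i : ℤ, ∃ hr : v ^ i * s ∈ (S : Subgroup G),
      toBar C ⟨v ^ i * s, hcS hr⟩ ∈ L := by
    intro s hs
    obtain ⟨i, l, hl, e⟩ := hproj s hs
    refine ⟨-i, mul_mem (zpow_mem hvS _) hs, ?_⟩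
    have : toBar C ⟨v ^ (-i) * s, hcS (mul_mem (zpow_mem hvS _) hs)⟩ = l := by
      rw [show (⟨v ^ (-i) * s, hcS (mul_mem (zpow_mem hvS _) hs)⟩ : ↥C) =
          (⟨v, hcS hvS⟩ : ↥C) ^ (-i) * ⟨s, hcS hs⟩ from rfl]
      simp only [toBar, map_mul, map_zpow]
      rw [show QuotientGroup.mk' (Cfsg.oddCore ↥C) ⟨s, hcS hs⟩ =
          QuotientGroup.mk' (Cfsg.oddCore ↥C) ⟨v, hcS hvS⟩ ^ i * l from e, ← mul_assoc, ← zpow_add,
        neg_add_cancel, zpow_zero, one_mul]
    rw [this]; exact hl
  have hv2 : ∀ i : ℤ, v ^ i = 1 ∨ v ^ i = v := by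
    intro i
    have h2 : v ^ (2 : ℤ) = 1 := by rw [zpow_two]; exact hT.sq v hvS
    rcases Int.even_or_odd i with ⟨j, rfl⟩ | ⟨j, rfl⟩
    · exact Or.inl (by rw [← two_mul, zpow_mul, h2, one_zpow])
    · exact Or.inr (by rw [zpow_add_one, zpow_mul, h2, one_zpow, one_mul])
  obtain ⟨i, haS, haL⟩ := hpart t htS
  set a := v ^ i * t with ha
  have ha1 : a ≠ 1 := by
    rcases hv2 i with e | e <;> rw [ha, e]
    · rwa [one_mul]
    · exact fun h => htv (by rw [← inv_eq_of_mul_eq_one_right h, inv_eq_self hT hvS])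
  obtain ⟨s, hsS, hs⟩ : ∃ s ∈ (S : Subgroup G), s ≠ 1 ∧ s ≠ v ∧ s ≠ t ∧ s ≠ v * t := by
    by_contra hno
    push Not at hno
    have hsub : ((S : Subgroup G) : Set G) ⊆ {1, v, t, v * t} := fun y hy => by
      by_cases h1 : y = 1
      · exact Or.inl h1
      by_cases h2 : y = v
      · exact Or.inr (Or.inl h2)
      by_cases h3 : y = t
      · exact Or.inr (Or.inr (Or.inl h3))
      exact Or.inr (Or.inr (Or.inr (hno y hy h1 h2 h3)))
    have hle := Set.ncard_le_ncard hsub
    rw [← Nat.card_coe_set_eq] at hle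
    simp only [SetLike.coe_sort_coe] at hle
    rw [hT.card_eight] at hle
    have h1 := Set.ncard_insert_le (1 : G) {v, t, v * t}
    have h2 := Set.ncard_insert_le v ({t, v * t} : Set G)
    have h3 := Set.ncard_insert_le t ({v * t} : Set G)
    rw [Set.ncard_singleton] at h3
    omega
  obtain ⟨j, hbS, hbL⟩ := hpart s hsS
  set b := v ^ j * s with hb
  have hvs : ∀ x : G, v * (v * x) = x := fun x => by rw [← mul_assoc, hT.sq v hvS, one_mul]
  have hb1 : b ≠ 1 := by
    rcases hv2 j with e | e <;> rw [hb, e]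
    · rw [one_mul]; exact hs.1
    · exact fun h => hs.2.1 (by rw [← inv_eq_of_mul_eq_one_right h, inv_eq_self hT hvS])
  have hba : b ≠ a := by
    rcases hv2 i with e | e <;> rcases hv2 j with e' | e' <;> rw [hb, ha, e, e']
    · rw [one_mul, one_mul]; exact hs.2.2.1
    · intro h
      refine hs.2.2.2 ?_
      rw [one_mul] at h
      rw [← h, hvs]
    · intro h
      refine hs.2.2.2 ?_
      rwa [one_mul] at h
    · exact fun h => hs.2.2.1 (mul_left_cancel h)
  -- the torus of `a` normalises the image of `R ∩ C(v)`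
  set m := QuotientGroup.mk' (Cfsg.oddCore ↥C) with hm
  set Y := (R.subgroupOf C).map m with hY
  have hYodd : Odd (Nat.card Y) := by
    refine hR.of_dvd_nat ((Subgroup.card_map_dvd _ _).trans ?_)
    rw [← Subgroup.card_map_of_injective C.subtype_injective]
    exact card_dvd_of_le (by
      rintro _ ⟨z, hz, rfl⟩
      exact hz)
  have hsq : ∀ {r : G} (hr : r ∈ (S : Subgroup G)),
      toBar C ⟨r, hcS hr⟩ * toBar C ⟨r, hcS hr⟩ = 1 := fun hr => by
    rw [← map_mul]
    exact (congrArg (toBar C) (Subtype.ext (hT.sq _ hr))).trans (map_one _)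
  have hvz : ∀ y : ↥C, Commute (⟨v, hcS hvS⟩ : ↥C) y := fun y =>
    Subtype.ext (mem_centralizer_singleton_iff.1 y.2).symm
  have hta : (⟨t, hcS htS⟩ : ↥C) = (⟨v, hcS hvS⟩ : ↥C) ^ (-i) * ⟨a, hcS haS⟩ :=
    Subtype.ext (by
      show t = v ^ (-i) * (v ^ i * t)
      group)
  haveI := hn
  have hcomm : ∀ y ∈ Y, Commute y (toBar C ⟨a, hcS haS⟩) := by
    refine H29.Walter.commute_of_normalized hPSL haL hbL
      (fun h => ha1 (eq_one_of_bar hT haS _ h)) (hsq haS) (fun h => hb1 (eq_one_of_bar hT hbS _ h))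
      (hsq hbS) ?_ ?_ hYodd fun c hc hca => ?_
    · exact Commute.map (show Commute (⟨a, hcS haS⟩ : ↥C) ⟨b, hcS hbS⟩ from
        Subtype.ext (hT.cfg.absyl.comm S.isPGroup' haS hbS).eq) _
    · intro h
      refine hba ((mul_inv_eq_one.1 (eq_one_of_bar hT (H := C) (mul_mem haS (inv_mem hbS))
        (hcS (mul_mem haS (inv_mem hbS))) ?_)).symm)
      rw [show (⟨a * b⁻¹, hcS (mul_mem haS (inv_mem hbS))⟩ : ↥C) =
        ⟨a, hcS haS⟩ * ⟨b, hcS hbS⟩⁻¹ from rfl]
      show QuotientGroup.mk' (Cfsg.oddCore ↥C) _ = 1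
      rw [map_mul, map_inv]
      exact mul_inv_eq_one.2 h
    · have hct : Commute c (m ⟨t, hcS htS⟩) := by
        rw [hta, map_mul, map_zpow]
        refine Commute.mul_right ?_ hca
        obtain ⟨c, rfl⟩ := QuotientGroup.mk'_surjective (Cfsg.oddCore ↥C) c
        exact (((hvz c).symm).map _).zpow_right _
      obtain ⟨y, rfl, hy⟩ := H36.GW.exists_commute_lift (a := (⟨t, hcS htS⟩ : ↥C))
        (Subtype.ext (hT.sq t htS)) hct
      have hyM : (y : G) ∈ M := hCt (mem_centralizer_singleton_iff.2 (congrArg Subtype.val hy.eq))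
      have hyn : y ∈ normalizer ((R.subgroupOf C : Subgroup ↥C) : Set ↥C) :=
        mem_normalizer_iff.2 fun z => mem_normalizer_iff.1 (hMR hyM) (z : G)
      exact Subgroup.le_normalizer_map m ⟨y, hyn, rfl⟩
  have hfC : f ∈ C := mem_centralizer_singleton_iff.2 hfv.eq
  refine ⟨⁅(⟨f, hfC⟩ : ↥C), (⟨t, hcS htS⟩ : ↥C)⁆, ?_, rfl⟩
  show ⁅(⟨f, hfC⟩ : ↥C), (⟨t, hcS htS⟩ : ↥C)⁆ ∈ Cfsg.oddCore ↥C
  rw [← QuotientGroup.eq_one_iff, ← QuotientGroup.mk'_apply, map_commutatorElement,
    commutatorElement_eq_one_iff_commute, hta, map_mul, map_zpow]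
  exact (((hvz _).symm.map m).zpow_right _).mul_right (hcomm _ ⟨⟨f, hfC⟩, hf, rfl⟩)

/-- A component of a maximal subgroup over `S` modulo the core is normal, with a piece of order
four or eight. -/
theorem component_facts (hT : Three S) (hd : H88.Walter.ShapeData.{u}) {X : Subgroup G}
    (hX : X ≠ ⊤) (hSX : (S : Subgroup G) ≤ X) {L : Subgroup (Bar X)} (hL : Cfsg.IsComponent L) :
    ∃ T : Sylow 2 (Bar X), (∀ s (hs : s ∈ (S : Subgroup G)), toBar X ⟨s, hSX hs⟩ ∈ (T : Subgroup (Bar X))) ∧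
      L.Normal ∧ Shape ↥L ∧ ∃ P : Sylow 2 ↥L, (P : Subgroup ↥L) = (T : Subgroup (Bar X)).subgroupOf L ∧
        H88.Walter.GoodPiece (P : Subgroup ↥L) ∧
        (Nat.card ↥(P : Subgroup ↥L) = 4 ∨ (T : Subgroup (Bar X)) ≤ L) := by
  haveI : Fact (Nat.Prime 2) := ⟨Nat.prime_two⟩
  have hab := hT.cfg.absyl_bar X
  have hO := H10.Walter.oddCore_bar X
  set T := (S.subtype hSX).mapSurjective (f := QuotientGroup.mk' (Cfsg.oddCore ↥X))
    (QuotientGroup.mk'_surjective _) with hTd
  have hT8 : Nat.card ↥(T : Subgroup (Bar X)) ∣ 8 := by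
    refine (Subgroup.card_map_dvd _ _).trans ?_
    rw [← hT.card_eight]
    exact (Nat.card_congr (subgroupOfEquivOfLe hSX).toEquiv).dvd
  have hsim : ∀ K : Subgroup (Bar X), Cfsg.IsComponent K →
      center ↥K = ⊥ ∧ Shape ↥K ∧ ∃ P : Sylow 2 ↥K,
        (P : Subgroup ↥K) = (T : Subgroup (Bar X)).subgroupOf K ∧
        H88.Walter.GoodPiece (P : Subgroup ↥K) ∧
        Nat.card ↥(P : Subgroup ↥K) = Nat.card ↥((T : Subgroup (Bar X)) ⊓ K : Subgroup (Bar X)) := by
    intro K hK
    obtain ⟨hsimp, hna⟩ := hT.cfg.component_simple_bar X hK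
    have hsh := hT.cfg.component_shape_bar hX hK
    obtain ⟨P, hP⟩ : ∃ P : Sylow 2 ↥K, ((T : Subgroup (Bar X)).subgroupOf K : Subgroup ↥K) = P :=
      (Cfsg.Agent.S0542.result 2 K hK.1 T).imp fun _ e => e.symm
    refine ⟨(hsimp.eq_bot_or_eq_top_of_normal (center ↥K) inferInstance).resolve_right
      (Components.qs_center_ne_top hK.2), hsh, P, hP.symm, hd ↥K hsimp hna (hab.subgroup K) hsh P, ?_⟩
    rw [← hP, ← Subgroup.card_map_of_injective K.subtype_injective, subgroupOf_map_subtype]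
  obtain ⟨hZ, hsh, P, hP, hgood, hPc⟩ := hsim L hL
  have hn : L.Normal := by
    refine ⟨fun x hx c => ?_⟩
    have hLc := Components.component_conj hL c
    set L' := L.map (MulAut.conj c).toMonoidHom with hL'
    by_cases e : L' = L
    · exact e ▸ ⟨x, hx, rfl⟩
    exfalso
    obtain ⟨-, -, P', -, hgood', hP'c⟩ := hsim L' hLc
    have hd' : ((T : Subgroup (Bar X)) ⊓ L) ⊓ ((T : Subgroup (Bar X)) ⊓ L') = ⊥ := by
      refine (Subgroup.eq_bot_iff_forall _).2 fun z hz => ?_
      have hcc := commutator_eq_bot_iff_le_centralizer.1 (Components.components_commute hLc hL e)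
      have hmem : (⟨z, hz.1.2⟩ : ↥L) ∈ center ↥L := mem_center_iff.2 fun y =>
        Subtype.ext (mem_centralizer_iff.1 (hcc hz.2.2) y y.2)
      rw [hZ, mem_bot] at hmem
      exact congrArg Subtype.val hmem
    let μ : ↥((T : Subgroup (Bar X)) ⊓ L) × ↥((T : Subgroup (Bar X)) ⊓ L') → ↥(T : Subgroup (Bar X)) :=
      fun p => ⟨p.1.1 * p.2.1, mul_mem p.1.2.1 p.2.2.1⟩
    have hμ : Function.Injective μ := fun p q h => by
      have h' : p.1.1 * p.2.1 = q.1.1 * q.2.1 := congrArg Subtype.val h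
      have h'' : q.1.1⁻¹ * p.1.1 = q.2.1 * p.2.1⁻¹ := by
        rw [eq_mul_inv_iff_mul_eq, mul_assoc, h', inv_mul_cancel_left]
      have hin := hd'.le (show q.1.1⁻¹ * p.1.1 ∈ ((T : Subgroup (Bar X)) ⊓ L) ⊓
          ((T : Subgroup (Bar X)) ⊓ L') from Subgroup.mem_inf.2
        ⟨Subgroup.mul_mem _ (Subgroup.inv_mem _ q.1.2) p.1.2,
          h'' ▸ Subgroup.mul_mem _ q.2.2 (Subgroup.inv_mem _ p.2.2)⟩)
      rw [mem_bot] at hin
      have e1 : p.1.1 = q.1.1 := (inv_mul_eq_one.1 hin).symm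
      rw [e1] at h'
      exact Prod.ext (Subtype.ext e1) (Subtype.ext (mul_left_cancel h'))
    have hle := Nat.card_le_card_of_injective μ hμ
    rw [Nat.card_prod, ← hPc, ← hP'c] at hle
    have h8 := Nat.le_of_dvd (by norm_num) hT8
    have := Nat.mul_le_mul hgood.four hgood'.four
    omega
  refine ⟨T, fun s hs => ⟨⟨s, hSX hs⟩, hs, rfl⟩, hn, hsh, P, hP, hgood, ?_⟩
  have hdvd : Nat.card ↥(P : Subgroup ↥L) ∣ 8 :=
    hPc ▸ (card_dvd_of_le inf_le_left).trans hT8
  have hmem : Nat.card ↥(P : Subgroup ↥L) ∈ Nat.divisors 8 := Nat.mem_divisors.2 ⟨hdvd, by norm_num⟩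
  have := hgood.four
  rw [show Nat.divisors 8 = {1, 2, 4, 8} by decide] at hmem
  simp only [Finset.mem_insert, Finset.mem_singleton] at hmem
  rcases hmem with h | h | h | h
  · omega
  · omega
  · exact Or.inl h
  · refine Or.inr (inf_eq_left.1 (eq_of_le_of_card_ge inf_le_left ?_))
    rw [← hPc, h]
    exact Nat.le_of_dvd (by norm_num) hT8

/-- The layer of a maximal subgroup over `S` and `F(M)` lies in `M`. -/
theorem layerIn_le (hT : Three S) (hd : H88.Walter.ShapeData.{u}) {t : G}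
    (htS : t ∈ (S : Subgroup G)) (ht1 : t ≠ 1) {M : Subgroup G} (hM : IsCoatom M)
    (hCt : centralizer ({t} : Set G) ≤ M) (hne : M ≠ centralizer ({t} : Set G))
    (hC : ∀ r : ℕ, r.Prime → Moves t M r →
      centralizer ((⁅pCoreIn r M, zpowers t⁆ : Subgroup G) : Set G) ≤ M)
    {X : Subgroup G} (hX : IsCoatom X) (hSX : (S : Subgroup G) ≤ X)
    (hFX : ∀ r : ℕ, r.Prime → pCoreIn r M ≤ X) : layerIn X ≤ M := by
  classical
  haveI : Fact (Nat.Prime 2) := ⟨Nat.prime_two⟩
  have hot := orderOf_eq_two hT htS ht1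
  have hodd : ∀ r : ℕ, r.Prime → pCoreIn r M ≠ ⊥ → r ≠ 2 := fun r _ hr h2 => by
    subst h2; exact hr (pCoreIn_two_eq_bot hT htS ht1 hM hCt hne)
  obtain ⟨r, hr, hmr⟩ := exists_moves hot
    (hCt (mem_centralizer_singleton_iff.2 rfl)) (layer_eq_bot_of_three hT htS ht1 hM hCt hne) hodd
  haveI := Fact.mk hr
  set R := pCoreIn r M with hRd
  have hRne : R ≠ ⊥ := fun e => hmr ((le_of_eq e).trans bot_le)
  have hR2 : r ≠ 2 := hodd r hr hRne
  have hRodd : Odd (Nat.card R) := by
    obtain ⟨k, hk⟩ := IsPGroup.iff_card.mp (isPGroup_pCoreIn (p := r) M)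
    rw [hk]
    exact (hr.odd_of_ne_two hR2).pow
  have hMR : M ≤ normalizer (R : Set G) := H77.GW.le_normalizer_pCoreIn M
  have hRX : R ≤ X := hFX r hr
  have htX : t ∈ X := hSX htS
  -- the commutators act trivially on every component modulo the core
  have key : ∀ L : Subgroup (Bar X), Cfsg.IsComponent L → ∀ f (hf : f ∈ R),
      toBar X ⁅(⟨f, hRX hf⟩ : ↥X), (⟨t, htX⟩ : ↥X)⁆ ∈ centralizer (L : Set (Bar X)) := by
    intro L hL
    obtain ⟨T, hST, hn, hsh, P, hP, hgood, hcase⟩ := component_facts hT hd hX.1 hSX hL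
    haveI := hn
    set ψ : Bar X →* MulAut ↥L := MulAut.conjNormal with hψ
    have hker : ∀ z : Bar X, ψ z = 1 → z ∈ centralizer (L : Set (Bar X)) := fun z hz =>
      mem_centralizer_iff.2 fun c hc => by
        have h2 := congrArg Subtype.val (DFunLike.congr_fun hz ⟨c, hc⟩)
        rw [hψ, MulAut.conjNormal_apply, MulAut.one_apply] at h2
        exact (mul_inv_eq_iff_eq_mul.1 h2).symm
    have hinner : ∀ c : ↥L, ψ (c : Bar X) = MulAut.conj c := fun c =>
      MulEquiv.ext fun y => Subtype.ext (by simp [hψ, MulAut.conjNormal_apply])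
    set ι : ↥X →* Bar X := QuotientGroup.mk' (Cfsg.oddCore ↥X) with hι
    suffices hR : ∀ f (hf : f ∈ R), Commute (ψ (ι ⟨f, hRX hf⟩)) (ψ (ι ⟨t, htX⟩)) by
      intro f hf
      refine hker _ ?_
      show ψ (ι _) = 1
      rw [map_commutatorElement, map_commutatorElement, commutatorElement_eq_one_iff_commute]
      exact hR f hf
    rcases hcase with h4 | hTL
    · -- a piece of order four
      have hPSL := isOddPSL_of_four hsh P h4
      obtain ⟨g, hg, hgc⟩ := H10.Walter.exists_inner (hT.cfg.absyl_bar X)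
        (H10.Walter.oddCore_bar X) hL T (hST t htS)
      have hψt : ψ (ι ⟨t, htX⟩) = ψ g := by
        have h1 : ψ (ι ⟨t, htX⟩ * g⁻¹) = 1 := MulEquiv.ext fun y => Subtype.ext (by
          rw [hψ, MulAut.conjNormal_apply, MulAut.one_apply,
            ← mem_centralizer_iff.1 hgc y y.2, mul_inv_cancel_right])
        rwa [map_mul, map_inv, mul_inv_eq_one] at h1
      by_cases hg1 : g = 1
      · intro f hf
        rw [hψt, hg1, map_one]
        exact Commute.one_right _
      obtain ⟨b, hb, hb1, hbg⟩ : ∃ b : ↥L, b ∈ (P : Subgroup ↥L) ∧ b ≠ 1 ∧ b ≠ ⟨g, hg.2⟩ := by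
        by_contra hno
        push Not at hno
        have hsub : ((P : Subgroup ↥L) : Set ↥L) ⊆ {1, ⟨g, hg.2⟩} := fun y hy => by
          by_cases hy1 : y = 1
          · exact Or.inl hy1
          · exact Or.inr (hno y hy hy1)
        have h := Set.ncard_le_ncard hsub
        rw [← Nat.card_coe_set_eq] at h
        simp only [SetLike.coe_sort_coe] at h
        rw [h4] at h
        have := h.trans (Set.ncard_insert_le _ _)
        simp at this
      have hbT : (b : Bar X) ∈ (T : Subgroup (Bar X)) := hP.le hb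
      have hgP : (⟨g, hg.2⟩ : ↥L) ∈ (P : Subgroup ↥L) := hP.ge hg.1
      set Y := (R.subgroupOf X).map ι with hY
      have hYodd : Odd (Nat.card Y) := by
        refine hRodd.of_dvd_nat ((Subgroup.card_map_dvd _ _).trans ?_)
        rw [Nat.card_congr (subgroupOfEquivOfLe hRX).toEquiv]
      have hcomm := H29.Walter.commute_of_normalized hPSL hg.2 b.2 hg1
        (congrArg Subtype.val (hgood.sq _ hgP)) (fun e => hb1 (Subtype.ext e))
        (congrArg Subtype.val (hgood.sq _ hb))
        ((hT.cfg.absyl_bar X).comm T.isPGroup' hg.1 hbT)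
        (fun e => hbg (Subtype.ext e.symm)) hYodd fun c hc hca => by
          have hct : Commute c (ι ⟨t, htX⟩) := by
            have hcz : Commute c (ι ⟨t, htX⟩ * g⁻¹) := mem_centralizer_iff.1 hgc c hc
            have := hcz.mul_right hca
            rwa [inv_mul_cancel_right] at this
          obtain ⟨y, rfl, hy⟩ := H36.GW.exists_commute_lift (a := (⟨t, htX⟩ : ↥X))
            (Subtype.ext (hT.sq t htS)) hct
          have hyM : (y : G) ∈ M :=
            hCt (mem_centralizer_singleton_iff.2 (congrArg Subtype.val hy.eq))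
          have hyn : y ∈ normalizer ((R.subgroupOf X : Subgroup ↥X) : Set ↥X) :=
            mem_normalizer_iff.2 fun z => mem_normalizer_iff.1 (hMR hyM) (z : G)
          exact Subgroup.le_normalizer_map ι ⟨y, hyn, rfl⟩
      intro f hf
      rw [hψt]
      exact (hcomm _ ⟨⟨f, hRX hf⟩, hf, rfl⟩).map ψ
    · -- a piece of order eight: the cores act trivially
      have htriv : ∀ v, v ∈ (S : Subgroup G) → v ≠ 1 → ∀ z (hz : z ∈ X), z ∈ coreAt v →
          ψ (ι ⟨z, hz⟩) = 1 := by
        intro v hvS hv1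
        set x : ↥L := ⟨ι ⟨v, hSX hvS⟩, hTL (hST v hvS)⟩ with hx
        have hxP : x ∈ (P : Subgroup ↥L) := hP.ge (hST v hvS)
        have hx1 : x ≠ 1 := fun e => hv1 (eq_one_of_bar hT hvS _ (congrArg Subtype.val e))
        have hnu : ¬ H88.Walter.Unbal (P : Subgroup ↥L) := by
          rintro ⟨h4, -⟩
          have hPT : Nat.card ↥(P : Subgroup ↥L) = Nat.card ↥(T : Subgroup (Bar X)) := by
            rw [hP]; exact Nat.card_congr (subgroupOfEquivOfLe hTL).toEquiv
          have h8 : 8 ≤ Nat.card ↥(T : Subgroup (Bar X)) := by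
            rw [← hT.card_eight]
            refine Nat.card_le_card_of_injective
              (fun s : ↥(S : Subgroup G) => (⟨ι ⟨s, hSX s.2⟩, hST s s.2⟩ : ↥(T : Subgroup (Bar X))))
              fun p q e => Subtype.ext (mul_inv_eq_one.1
                (eq_one_of_bar hT (H := X) (mul_mem p.2 (inv_mem q.2))
                  (hSX (mul_mem p.2 (inv_mem q.2))) ?_))
            have e' : ι ⟨p, hSX p.2⟩ = ι ⟨q, hSX q.2⟩ := congrArg Subtype.val e
            rw [show (⟨(p : G) * (q : G)⁻¹, hSX (mul_mem p.2 (inv_mem q.2))⟩ : ↥X) =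
              ⟨p, hSX p.2⟩ * ⟨q, hSX q.2⟩⁻¹ from rfl]
            show ι _ = 1
            rw [map_mul, map_inv, e', mul_inv_cancel]
          omega
        have hodd' := hgood.type.resolve_left hnu x hxP hx1
        set D := ((coreAt v).subgroupOf X).map (ψ.comp ι) with hD
        have hcD : coreAt v ≤ centralizer ({v} : Set G) := map_subtype_le _
        have hDodd : Odd (Nat.card D) := by
          have hc : Odd (Nat.card ↥(coreAt v)) := by
            rw [card_map_of_injective (centralizer ({v} : Set G)).subtype_injective]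
            exact Cores.odd_card_oddCore
          refine hc.of_dvd_nat ((Subgroup.card_map_dvd _ _).trans ?_)
          rw [← Subgroup.card_map_of_injective X.subtype_injective, subgroupOf_map_subtype]
          exact card_dvd_of_le inf_le_left
        have hbot : D = ⊥ := by
          refine hodd' D hDodd ?_ ?_
          · rintro _ ⟨z, hz, rfl⟩
            refine Subtype.ext ?_
            have hzv : Commute z (⟨v, hSX hvS⟩ : ↥X) :=
              Subtype.ext (mem_centralizer_singleton_iff.1 (hcD hz))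
            show ((ψ (ι z)) x : Bar X) = ι ⟨v, hSX hvS⟩
            rw [hψ, MulAut.conjNormal_apply, hx]
            exact mul_inv_eq_iff_eq_mul.2 (hzv.map ι).eq
          · intro c hc
            have hcv : Commute (c : Bar X) (ι ⟨v, hSX hvS⟩) :=
              congrArg Subtype.val (mem_centralizer_singleton_iff.1 hc)
            obtain ⟨y, hyc, hy⟩ := H36.GW.exists_commute_lift (a := (⟨v, hSX hvS⟩ : ↥X))
              (Subtype.ext (hT.sq v hvS)) hcv
            have hyC : (y : G) ∈ centralizer ({v} : Set G) :=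
              mem_centralizer_singleton_iff.2 (congrArg Subtype.val hy.eq)
            have hyn : y ∈ normalizer (((coreAt v).subgroupOf X : Subgroup ↥X) : Set ↥X) :=
              mem_normalizer_iff.2 fun z =>
                mem_normalizer_iff.1 (Components.le_normalizer_map_subtype _ hyC) (z : G)
            rw [← hinner, show (c : Bar X) = ι y from hyc.symm]
            exact Subgroup.le_normalizer_map (ψ.comp ι) ⟨y, hyn, rfl⟩
        intro z hz hzc
        have : ψ (ι ⟨z, hz⟩) ∈ D := ⟨⟨z, hz⟩, hzc, rfl⟩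
        rwa [hbot, mem_bot] at this
      obtain ⟨V, hVS, hVnc, htV, hVc, -⟩ := exists_four hT htS ht1
      haveI : IsMulCommutative V :=
        ⟨⟨fun a b => Subtype.ext (hT.cfg.absyl.comm S.isPGroup' (hVS a.2) (hVS b.2)).eq⟩⟩
      have hle : R ≤ ((centralizer ({ψ (ι ⟨t, htX⟩)} : Set (MulAut ↥L))).comap (ψ.comp ι)).map
          X.subtype := by
        refine Coprime.le_of_centralizer_noncyclic_le hVnc (fun y hy => hMR (hCt
          (mem_centralizer_of_sylow hT htS (hVS hy)))) ?_ fun v hv hv1 => ?_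
        · rw [hVc, show (4 : ℕ) = 2 ^ 2 by norm_num]
          exact (Nat.coprime_two_left.2 hRodd).pow_left _
        · rintro f ⟨hf, hfv⟩
          refine ⟨⟨f, hRX hf⟩, mem_centralizer_singleton_iff.2 ?_, rfl⟩
          have hw := commutator_mem_coreAt hT htS (hVS hv) ht1 hv1 (fun e => htV (e ▸ hv)) hCt hRodd
            hMR hf (mem_centralizer_singleton_iff.1 hfv)
          have h1 := htriv v (hVS hv) hv1 _ (mul_mem (mul_mem (mul_mem (hRX hf) htX)
            (inv_mem (hRX hf))) (inv_mem htX)) (by simpa [commutatorElement_def] using hw)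
          have h2 : ⁅(ψ (ι ⟨f, hRX hf⟩)), ψ (ι ⟨t, htX⟩)⁆ = 1 := by
            rw [← map_commutatorElement, ← map_commutatorElement]
            exact h1
          exact (commutatorElement_eq_one_iff_commute.1 h2).eq
      intro f hf
      obtain ⟨y, hy, hyf⟩ := hle hf
      have : y = ⟨f, hRX hf⟩ := Subtype.ext hyf
      subst this
      exact mem_centralizer_singleton_iff.1 hy
  -- so the layer centralises `[R, t]`
  refine le_trans ?_ (hC r hr hmr)
  rintro _ ⟨x, hx, rfl⟩
  have hle : ⁅R, zpowers t⁆ ≤ centralizer ({(x : G)} : Set G) := by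
    refine commutator_le.2 fun f hf z hz => ?_
    obtain ⟨i, rfl⟩ := mem_zpowers_iff.1 hz
    have h2 : t ^ (2 : ℤ) = 1 := by rw [zpow_two]; exact hT.sq t htS
    rcases Int.even_or_odd i with ⟨j, rfl⟩ | ⟨j, rfl⟩
    · rw [← two_mul, zpow_mul, h2, one_zpow, commutatorElement_one_right]
      exact one_mem _
    · rw [zpow_add_one, zpow_mul, h2, one_zpow, one_mul]
      have := commute_layer_of_bar (⁅(⟨f, hRX hf⟩ : ↥X), (⟨t, htX⟩ : ↥X)⁆)
        (fun L hL => key L hL f hf) x hx
      exact mem_centralizer_singleton_iff.2 (congrArg Subtype.val this.eq)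
  exact mem_centralizer_iff.2 fun z hz => mem_centralizer_singleton_iff.1 (hle hz)

/-- **Case II in the rank three setting is impossible.** -/
theorem false_caseTwo_three (hT : Three S) (hd : H88.Walter.ShapeData.{u}) {t : G}
    (htS : t ∈ (S : Subgroup G)) (ht1 : t ≠ 1)
    (hnmax : ¬ IsCoatom (centralizer ({t} : Set G))) : False :=
  false_caseTwo_of_three hT htS ht1 hnmax
    (fun _ hM hCt => layer_eq_bot_of_three hT htS ht1 hM hCt fun e => hnmax (e ▸ hM))
    (fun _ hM hCt hC _ hX hSX hFX =>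
      layerIn_le hT hd htS ht1 hM hCt (fun e => hnmax (e ▸ hM)) hC hX hSX hFX)

end Cfsg.Agent.H57.Walter
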