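import Cfsg.Agent.H57.Walter.CaseTwo
import Cfsg.Agent.H77.Walter.Three
import Cfsg.Agent.S0223

/-!
# Walter programme: Case II in the rank three setting
-/

set_option autoImplicit false
set_option linter.unusedSectionVars false

namespace Cfsg.Agent.H57.Walter

open Subgroup Cfsg.Agent
open Cfsg.Agent.H10.Walter (AbSyl Bar)
open Cfsg.Agent.H77.Walter (Three toBar)
open Cfsg.Agent.Components (pCoreIn isPGroup_pCoreIn layerIn)
open Cfsg.Agent.H77.GW (Moves)

universe u

variable {G : Type u} [Group G] [Finite G] {S : Sylow 2 G}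

theorem orderOf_eq_two (hT : Three S) {a : G} (ha : a ∈ (S : Subgroup G)) (ha1 : a ≠ 1) :
    orderOf a = 2 := by
  have : Fact (Nat.Prime 2) := ⟨Nat.prime_two⟩
  exact orderOf_eq_prime (by rw [sq]; exact hT.sq a ha) ha1

/-- An element normalising `S` that squares to a centraliser of `x ∈ S` centralises `x`. -/
theorem commute_of_commute_sq (h : AbSyl G) {g x : G}
    (hg : g ∈ normalizer ((S : Subgroup G) : Set G)) (hx : x ∈ (S : Subgroup G))
    (hgx : Commute (g * g) x) : Commute g x := by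
  haveI : Fact (Nat.Prime 2) := ⟨Nat.prime_two⟩
  obtain ⟨k, m, hm, hgm⟩ := Nat.exists_eq_two_pow_mul_odd (orderOf_pos g).ne'
  obtain ⟨j, rfl⟩ := hm
  have hg2 : IsPGroup 2 (zpowers (g ^ (2 * j + 1))) := IsPGroup.of_card (n := k) (by
    rw [Nat.card_zpowers, orderOf_pow' g (by omega), hgm, Nat.gcd_mul_left_left,
      Nat.mul_div_cancel _ (by omega)])
  have hgS : g ^ (2 * j + 1) ∈ (S : Subgroup G) := by
    have hle : zpowers (g ^ (2 * j + 1)) ≤ normalizer ((S : Subgroup G) : Set G) :=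
      zpowers_le.2 (pow_mem hg _)
    rw [← S.is_maximal' (S.isPGroup'.to_sup_of_normal_left' hg2 hle) le_sup_left]
    exact mem_sup_right (mem_zpowers _)
  have h1 : Commute (g ^ (2 * j + 1)) x := h.comm S.isPGroup' hgS hx
  have h3 : Commute (g ^ (2 * j)) x := by
    rw [pow_mul, sq]
    exact hgx.pow_left j
  have he : g = (g ^ (2 * j))⁻¹ * g ^ (2 * j + 1) := by rw [pow_succ]; group
  rw [he]
  exact h3.inv_left.mul_left h1

/-- The four group of `S` complementary to `t`, rotated by `C(t)`. -/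
theorem exists_four (hT : Three S) {t : G} (htS : t ∈ (S : Subgroup G)) (ht1 : t ≠ 1) :
    ∃ V : Subgroup G, V ≤ (S : Subgroup G) ∧ ¬ IsCyclic V ∧ t ∉ V ∧ Nat.card V = 4 ∧
      (∀ a ∈ V, a ≠ 1 → ∀ b ∈ V, b ≠ 1 →
        ∃ c ∈ centralizer ({t} : Set G) ⊓ normalizer ((S : Subgroup G) : Set G), c * a * c⁻¹ = b) := by
  classical
  have h := hT.cfg.absyl
  obtain ⟨g, hgN, hgt, hgfix⟩ := hT.fix_three t htS ht1
  have hconj : ∀ x ∈ (S : Subgroup G), g * x * g⁻¹ ∈ (S : Subgroup G) := fun x hx =>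
    (mem_normalizer_iff.1 hgN x).1 hx
  have hcomm : ∀ a ∈ (S : Subgroup G), ∀ b ∈ (S : Subgroup G), a * b = b * a := fun a ha b hb =>
    (h.comm S.isPGroup' ha hb).eq
  let δ : ↥(S : Subgroup G) →* G :=
    { toFun := fun x => (x : G) * (g * x * g⁻¹)
      map_one' := by simp
      map_mul' := fun x y => by
        have e := hcomm _ y.2 _ (hconj x x.2)
        calc ((x * y : ↥(S : Subgroup G)) : G) * (g * (x * y : ↥(S : Subgroup G)) * g⁻¹)
            = (x : G) * ((y : G) * (g * x * g⁻¹)) * (g * y * g⁻¹) := by push_cast; group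
          _ = _ := by rw [e]; group }
  have hker : δ.ker = (zpowers t).subgroupOf (S : Subgroup G) := by
    ext x
    rw [MonoidHom.mem_ker, mem_subgroupOf]
    show (x : G) * (g * x * g⁻¹) = 1 ↔ _
    constructor
    · intro e
      refine hgfix x x.2 ?_
      have e2 : g * x * g⁻¹ = x :=
        (mul_left_cancel (e.trans (hT.sq x x.2).symm))
      exact mul_inv_eq_iff_eq_mul.1 e2
    · intro hx
      obtain ⟨i, hi⟩ := mem_zpowers_iff.1 hx
      rw [← hi, (hgt.zpow_right i).eq, mul_inv_cancel_right, hi]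
      exact hT.sq x x.2
  have hot := orderOf_eq_two hT htS ht1
  have hcard : Nat.card δ.range = 4 := by
    have h1 := δ.ker.index_mul_card
    rw [index_ker, hker, Nat.card_congr (subgroupOfEquivOfLe (zpowers_le.2 htS)).toEquiv,
      Nat.card_zpowers, hot, hT.card_eight] at h1
    omega
  have hVS : δ.range ≤ (S : Subgroup G) := by
    rintro _ ⟨x, rfl⟩
    exact mul_mem x.2 (hconj x x.2)
  have hnc : ¬ IsCyclic δ.range := by
    intro hc
    obtain ⟨v, hv⟩ := hc.exists_ofOrder_eq_natCard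
    have : orderOf v ∣ 2 := orderOf_dvd_of_pow_eq_one (Subtype.ext (by
      rw [sq, coe_mul]; exact hT.sq v (hVS v.2)))
    rw [hv, hcard] at this
    norm_num at this
  have htV : t ∉ δ.range := by
    rintro ⟨x, hx⟩
    have hx' : (x : G) * (g * x * g⁻¹) = t := hx
    have hxe : g * x * g⁻¹ = x * t := by
      calc g * x * g⁻¹ = x * ((x : G) * (g * x * g⁻¹)) := by
            rw [← mul_assoc, hT.sq x x.2, one_mul]
        _ = x * t := by rw [hx']
    have h2 : Commute (g * g) x := by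
      refine mul_inv_eq_iff_eq_mul.1 ?_
      calc g * g * x * (g * g)⁻¹ = g * (g * x * g⁻¹) * g⁻¹ := by group
        _ = g * (x * t) * g⁻¹ := by rw [hxe]
        _ = g * x * g⁻¹ * (g * t * g⁻¹) := by group
        _ = x * t * t := by rw [hxe, hgt.eq]; group
        _ = x := by rw [mul_assoc, hT.sq t htS, mul_one]
    have h3 := (commute_of_commute_sq h hgN x.2 h2).eq
    rw [h3, mul_inv_cancel_right] at hxe
    exact ht1 (mul_eq_left.1 hxe.symm)
  refine ⟨δ.range, hVS, hnc, htV, hcard, ?_⟩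
  have hfix1 : ∀ a ∈ δ.range, a ≠ 1 → g * a * g⁻¹ ≠ a := by
    intro a ha ha1 e
    have hmem := hgfix a (hVS ha) (mul_inv_eq_iff_eq_mul.1 e)
    obtain ⟨i, hi⟩ := mem_zpowers_iff.1 hmem
    have h2 : t ^ (2 : ℤ) = 1 := by rw [zpow_two]; exact hT.sq t htS
    rcases Int.even_or_odd i with ⟨j, rfl⟩ | ⟨j, rfl⟩
    · exact ha1 (by rw [← hi, ← two_mul, zpow_mul, h2, one_zpow])
    · exact htV (by rwa [← hi, zpow_add_one, zpow_mul, h2, one_zpow, one_mul] at ha)
  have hinv : ∀ a ∈ δ.range, g * a * g⁻¹ ∈ δ.range := by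
    rintro _ ⟨x, rfl⟩
    exact ⟨⟨g * x * g⁻¹, hconj x x.2⟩, by
      show g * (x : G) * g⁻¹ * (g * (g * (x : G) * g⁻¹) * g⁻¹) = g * ((x : G) * (g * x * g⁻¹)) * g⁻¹
      group⟩
  have hgC : g ∈ centralizer ({t} : Set G) ⊓ normalizer ((S : Subgroup G) : Set G) :=
    ⟨mem_centralizer_singleton_iff.2 hgt.eq, hgN⟩
  intro a ha ha1 b hb hb1
  by_cases hab : a = b
  · exact ⟨1, one_mem _, by simp [hab]⟩
  by_cases hgab : g * a * g⁻¹ = b
  · exact ⟨g, hgC, hgab⟩
  refine ⟨g * g, mul_mem hgC hgC, ?_⟩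
  -- `1, a, g a g⁻¹, b` fill `V`
  set a1 := g * a * g⁻¹ with ha1d
  set a2 := g * a1 * g⁻¹ with ha2d
  have e2 : g * g * a * (g * g)⁻¹ = a2 := by rw [ha2d, ha1d]; group
  rw [e2]
  have ha1ne : a1 ≠ 1 := fun e => ha1 (conj_eq_one_iff.1 e)
  have ha2ne : a2 ≠ 1 := fun e => ha1ne (conj_eq_one_iff.1 e)
  by_contra hne
  have ha21 : a2 ≠ a1 := hfix1 a1 (hinv a ha) ha1ne
  have ha2a : a2 ≠ a := by
    intro e
    have h4 : Commute (g * g) a := mul_inv_eq_iff_eq_mul.1 (e2.trans e)
    exact hfix1 a ha ha1 (by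
      rw [(commute_of_commute_sq h hgN (hVS ha) h4).eq, mul_inv_cancel_right])
  have hsub : ({1, a, a1, a2, b} : Finset G) ⊆ (δ.range : Set G).toFinite.toFinset := by
    intro y hy
    simp only [Finset.mem_insert, Finset.mem_singleton] at hy
    simp only [Set.Finite.mem_toFinset, SetLike.mem_coe]
    rcases hy with rfl | rfl | rfl | rfl | rfl
    exacts [one_mem _, ha, hinv a ha, hinv _ (hinv a ha), hb]
  have h5 : ({1, a, a1, a2, b} : Finset G).card = 5 := by
    have n1 : a ≠ a1 := fun e => hfix1 a ha ha1 e.symm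
    simp [Ne.symm ha1, Ne.symm ha1ne, Ne.symm ha2ne, Ne.symm hb1, hab, hgab, n1, Ne.symm ha2a,
      Ne.symm ha21, hne]
  have h6 := Finset.card_le_card hsub
  rw [h5, ← Nat.card_eq_card_finite_toFinset] at h6
  have : Nat.card δ.range = 4 := hcard
  simp only [SetLike.coe_sort_coe] at h6
  omega

theorem isConj_of_ne_one (hT : Three S) {a b : G} (ha : a ∈ (S : Subgroup G))
    (hb : b ∈ (S : Subgroup G)) (ha1 : a ≠ 1) (hb1 : b ≠ 1) : IsConj a b := by
  obtain ⟨g, -, hg⟩ := hT.trans a ha b hb ha1 hb1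
  exact isConj_iff.2 ⟨g, hg⟩

/-- A maximal subgroup over `C(t)` does not fuse `t` in `S`. -/
theorem eq_of_conj_mem (hT : Three S) {t : G} (htS : t ∈ (S : Subgroup G)) (ht1 : t ≠ 1)
    {M : Subgroup G} (hM : IsCoatom M) (hCt : centralizer ({t} : Set G) ≤ M) {m : G} (hm : m ∈ M)
    (hmS : m * t * m⁻¹ ∈ (S : Subgroup G)) : m * t * m⁻¹ = t := by
  classical
  haveI : Fact (Nat.Prime 2) := ⟨Nat.prime_two⟩
  have h := hT.cfg.absyl
  obtain ⟨V, hVS, hVnc, htV, hVc, hVtr⟩ := exists_four hT htS ht1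
  by_contra hne
  have hSM : (S : Subgroup G) ≤ M := fun g hg =>
    hCt (mem_centralizer_singleton_iff.2 (h.comm S.isPGroup' hg htS).eq)
  have htM : t ∈ M := hSM htS
  -- the orbit of `t` under `N_M(S)`
  set N := M ⊓ normalizer ((S : Subgroup G) : Set G) with hN
  let O : Set G := {x | ∃ n ∈ N, n * t * n⁻¹ = x}
  have hOmul : ∀ x ∈ O, ∀ n ∈ N, n * x * n⁻¹ ∈ O := by
    rintro _ ⟨k, hk, rfl⟩ n hn
    exact ⟨n * k, mul_mem hn hk, by group⟩
  have hOS : ∀ x ∈ O, x ∈ (S : Subgroup G) ∧ x ≠ 1 := by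
    rintro _ ⟨k, hk, rfl⟩
    exact ⟨(mem_normalizer_iff.1 hk.2 t).1 htS, fun e => ht1 (conj_eq_one_iff.1 e)⟩
  obtain ⟨u, hu, hut⟩ : ∃ u ∈ O, u ≠ t := by
    haveI : IsMulCommutative ↥((S.subtype hSM : Sylow 2 ↥M) : Subgroup ↥M) := (h.subgroup M) _
    obtain ⟨b, hb, hbe⟩ := (S.subtype hSM : Sylow 2 ↥M).conj_eq_normalizer_conj_of_mem
      ⟨t, htM⟩ (⟨m, hm⟩⁻¹ : ↥M) htS
      (show (m⁻¹)⁻¹ * t * m⁻¹ ∈ (S : Subgroup G) by rwa [inv_inv])
    refine ⟨m * t * m⁻¹, ⟨(b : G)⁻¹, Subgroup.mem_inf.2 ⟨M.inv_mem b.2, ?_⟩, ?_⟩, hne⟩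
    · refine Subgroup.inv_mem _ (mem_normalizer_iff.2 fun y => ⟨fun hy => ?_, fun hy => ?_⟩)
      · exact (mem_normalizer_iff.1 hb ⟨y, hSM hy⟩).1 hy
      · have hyM : y ∈ M := by
          have := mul_mem (mul_mem (inv_mem b.2) (hSM hy)) b.2
          simpa [mul_assoc] using this
        exact (mem_normalizer_iff.1 hb ⟨y, hyM⟩).2 hy
    · have := congrArg Subtype.val hbe
      simpa [mul_assoc] using this.symm
  -- `t`, the `V`-coset of `u` and the whole of `S#`
  have hNV : ∀ a ∈ V, a ≠ 1 → ∀ b ∈ V, b ≠ 1 →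
      ∃ n ∈ N, n * t * n⁻¹ = t ∧ n * a * n⁻¹ = b := by
    intro a ha ha1 b hb hb1
    obtain ⟨c, ⟨hc, hcN⟩, hcab⟩ := hVtr a ha ha1 b hb hb1
    exact ⟨c, ⟨hCt hc, hcN⟩, by rw [mem_centralizer_singleton_iff.1 hc, mul_inv_cancel_right], hcab⟩
  have hsplit : ∀ x ∈ (S : Subgroup G), x ∈ V ∨ t * x ∈ V := by
    intro x hx
    by_contra hno
    push Not at hno
    have hidx : (V.subgroupOf (S : Subgroup G)).index = 2 := by
      have h1 := (V.subgroupOf (S : Subgroup G)).index_mul_card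
      rw [Nat.card_congr (subgroupOfEquivOfLe hVS).toEquiv, hVc, hT.card_eight] at h1
      omega
    have := Subgroup.mul_mem_iff_of_index_two hidx (a := ⟨t, htS⟩) (b := ⟨x, hx⟩)
    simp only [mem_subgroupOf, coe_mul] at this
    exact hno.2 (this.2 (iff_of_false htV hno.1))
  have hall : ∀ x ∈ (S : Subgroup G), x ≠ 1 → x ∈ O := by
    obtain ⟨huS, hu1⟩ := hOS u hu
    -- one of the two `C(t)`-orbits is in `O`
    have hcoset : (∀ a ∈ V, a ≠ 1 → a ∈ O) ∨ (∀ a ∈ V, a ≠ 1 → t * a ∈ O) := by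
      rcases hsplit u huS with hv | hv
      · refine Or.inl fun a ha ha1 => ?_
        obtain ⟨n, hn, -, hna⟩ := hNV u hv hu1 a ha ha1
        exact hna ▸ hOmul u hu n hn
      · refine Or.inr fun a ha ha1 => ?_
        have hv1 : t * u ≠ 1 := fun e => hut (by
          rw [← inv_eq_of_mul_eq_one_right e, inv_eq_of_mul_eq_one_right (hT.sq t htS)])
        obtain ⟨n, hn, hnt, hna⟩ := hNV _ hv hv1 a ha ha1
        have : n * u * n⁻¹ = t * a := by
          calc n * u * n⁻¹ = n * (t * (t * u)) * n⁻¹ := by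
                rw [← mul_assoc t, hT.sq t htS, one_mul]
            _ = n * t * n⁻¹ * (n * (t * u) * n⁻¹) := by group
            _ = t * a := by rw [hnt, hna]
        exact this ▸ hOmul u hu n hn
    -- `O` is an orbit of a group of odd order acting on `S`
    by_contra hno
    push Not at hno
    obtain ⟨x, hxS, hx1, hxO⟩ := hno
    have hO4 : ∀ y ∈ (S : Subgroup G), y ≠ 1 → y ∈ O → y = t ∨ (y ∈ V ↔ x ∉ V) := by
      intro y hy hy1 hyO
      by_cases hyt : y = t
      · exact Or.inl hyt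
      refine Or.inr ?_
      by_cases hxV : x ∈ V
      · simp only [hxV, not_true_eq_false, iff_false]
        intro hyV
        obtain ⟨n, hn, -, hna⟩ := hNV y hyV hy1 x hxV hx1
        exact hxO (hna ▸ hOmul y hyO n hn)
      · simp only [hxV, not_false_eq_true, iff_true]
        by_contra hyV
        have hxV' := (hsplit x hxS).resolve_left hxV
        have hyV' := (hsplit y hy).resolve_left hyV
        have hx2 : t * x ≠ 1 := fun e => hxO ⟨1, one_mem _, by
          rw [← inv_eq_of_mul_eq_one_right e, inv_eq_of_mul_eq_one_right (hT.sq t htS)]; simp⟩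
        have hy2 : t * y ≠ 1 := fun e => hyt (by
          rw [← inv_eq_of_mul_eq_one_right e, inv_eq_of_mul_eq_one_right (hT.sq t htS)])
        obtain ⟨n, hn, hnt, hna⟩ := hNV _ hyV' hy2 _ hxV' hx2
        refine hxO ?_
        have : n * y * n⁻¹ = x := by
          calc n * y * n⁻¹ = n * (t * (t * y)) * n⁻¹ := by
                rw [← mul_assoc t, hT.sq t htS, one_mul]
            _ = n * t * n⁻¹ * (n * (t * y) * n⁻¹) := by group
            _ = t * (t * x) := by rw [hnt, hna]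
            _ = x := by rw [← mul_assoc, hT.sq t htS, one_mul]
        exact this ▸ hOmul y hyO n hn
    -- so `O` has four elements, and `N` acts on it
    letI : MulAction ↥N G :=
      MulAction.compHom G (MulAut.conj.comp N.subtype : ↥N →* MulAut G)
    have hOrb : MulAction.orbit ↥N t = O := by
      ext y
      exact ⟨fun ⟨n, hn⟩ => ⟨n, n.2, hn⟩, fun ⟨n, hn, e⟩ => ⟨⟨n, hn⟩, e⟩⟩
    have hstab : Nat.card O = (MulAction.stabilizer ↥N t).index := by
      rw [← hOrb, Nat.card_congr (MulAction.orbitEquivQuotientStabilizer ↥N t)]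
      rfl
    have hSN : (S : Subgroup G) ≤ N := le_inf hSM le_normalizer
    have hodd : Odd (Nat.card O) := by
      rw [hstab]
      by_contra he
      rw [Nat.not_odd_iff_even] at he
      have hle : (S : Subgroup G).subgroupOf N ≤ MulAction.stabilizer ↥N t := by
        intro n hn
        show (n : G) * t * (n : G)⁻¹ = t
        exact mul_inv_eq_iff_eq_mul.2 (h.comm S.isPGroup' (show (n : G) ∈ (S : Subgroup G) from hn) htS).eq
      have h2 : 2 ∣ ((S.subtype hSN : Sylow 2 ↥N) : Subgroup ↥N).index :=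
        he.two_dvd.trans (index_dvd_of_le hle)
      exact (S.subtype hSN : Sylow 2 ↥N).not_dvd_index h2
    have hcard : Nat.card O = 4 := by
      rcases hcoset with hV | hV
      · have e : O = Set.insert t {a | a ∈ V ∧ a ≠ 1} := by
          ext y
          refine ⟨fun hy => ?_, ?_⟩
          · obtain ⟨hyS, hy1⟩ := hOS y hy
            by_cases hyV : y ∈ V
            · exact Or.inr ⟨hyV, hy1⟩
            refine Or.inl ?_
            rcases hO4 y hyS hy1 hy with e | e
            · exact e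
            · exact absurd (e.2 fun hxV => hxO (hV x hxV hx1)) hyV
          · rintro (rfl | ⟨hyV, hy1⟩)
            · exact ⟨1, one_mem _, by simp⟩
            · exact hV y hyV hy1
        rw [e, Nat.card_coe_set_eq]
        show (insert t {a | a ∈ V ∧ a ≠ 1} : Set G).ncard = 4
        rw [
          Set.ncard_insert_of_notMem (fun h' => htV h'.1)]
        have h3 : {a | a ∈ V ∧ a ≠ 1} = (V : Set G) \ {1} := by ext; simp
        rw [h3, Set.ncard_diff_singleton_of_mem (one_mem V), ← Nat.card_coe_set_eq]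
        simp only [SetLike.coe_sort_coe]
        rw [hVc]
      · have e : O = Set.insert t ((t * ·) '' {a | a ∈ V ∧ a ≠ 1}) := by
          ext y
          refine ⟨fun hy => ?_, ?_⟩
          · obtain ⟨hyS, hy1⟩ := hOS y hy
            by_cases hyt : y = t
            · exact Or.inl hyt
            refine Or.inr ⟨t * y, ⟨?_, fun e => hyt (by
              rw [← inv_eq_of_mul_eq_one_right e, inv_eq_of_mul_eq_one_right (hT.sq t htS)])⟩,
              by simp [← mul_assoc, hT.sq t htS]⟩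
            refine (hsplit y hyS).resolve_left fun hyV => ?_
            rcases hO4 y hyS hy1 hy with e | e
            · exact hyt e
            · have hxV' := (hsplit x hxS).resolve_left (e.1 hyV)
              refine hxO ?_
              have := hV (t * x) hxV' fun e' => hxO ⟨1, one_mem _, by
                rw [← inv_eq_of_mul_eq_one_right e', inv_eq_of_mul_eq_one_right (hT.sq t htS)]; simp⟩
              rwa [← mul_assoc, hT.sq t htS, one_mul] at this
          · rintro (rfl | ⟨a, ⟨haV, ha1⟩, rfl⟩)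
            · exact ⟨1, one_mem _, by simp⟩
            · exact hV a haV ha1
        rw [e, Nat.card_coe_set_eq]
        show (insert t ((t * ·) '' {a | a ∈ V ∧ a ≠ 1}) : Set G).ncard = 4
        have hnm : t ∉ ((t * ·) '' {a | a ∈ V ∧ a ≠ 1}) := by
          rintro ⟨a, ha, e'⟩
          exact ha.2 (mul_eq_left.1 e')
        rw [Set.ncard_insert_of_notMem hnm,
          Set.ncard_image_of_injective _ (mul_right_injective t)]
        have h3 : {a | a ∈ V ∧ a ≠ 1} = (V : Set G) \ {1} := by ext; simp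
        rw [h3, Set.ncard_diff_singleton_of_mem (one_mem V), ← Nat.card_coe_set_eq]
        simp only [SetLike.coe_sort_coe]
        rw [hVc]
    rw [hcard] at hodd
    exact absurd hodd (by decide)
  -- so `M` is strongly embedded
  refine hT.noSE M ((S0223.result M hM.1 ?_).2 ⟨?_, ?_⟩)
  · exact (even_iff_two_dvd.2 ((by rw [hT.card_eight]; norm_num :
      2 ∣ Nat.card ↥(S : Subgroup G)).trans (card_dvd_of_le hSM)))
  all_goals
    have hto : ∀ s ∈ M, orderOf s = 2 → ∃ k ∈ M, k * t * k⁻¹ = s := by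
      intro s hs hos
      obtain ⟨k, hk⟩ := H39.exists_conj_le_sylow
        ((IsPGroup.of_card (n := 1) (by rw [Nat.card_zpowers, hos, pow_one]) :
          IsPGroup 2 (zpowers s)).comap_of_injective M.subtype M.subtype_injective) (S.subtype hSM)
      have hks : (k : G) * s * (k : G)⁻¹ ∈ (S : Subgroup G) :=
        hk ⟨s, hs⟩ (show s ∈ zpowers s from mem_zpowers s)
      obtain ⟨n, hn, hne'⟩ := hall _ hks fun e => H39.ne_one_of_orderOf_eq_two hos
        (conj_eq_one_iff.1 e)
      exact ⟨(k : G)⁻¹ * n, mul_mem (inv_mem k.2) hn.1, by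
        rw [show (k : G)⁻¹ * n * t * ((k : G)⁻¹ * n)⁻¹ = (k : G)⁻¹ * (n * t * n⁻¹) * k by group,
          hne']
        group⟩
  · intro s hs hos y hy
    obtain ⟨k, hk, rfl⟩ := hto s hs hos
    have hyc : k⁻¹ * y * k ∈ centralizer ({t} : Set G) := by
      refine mem_centralizer_singleton_iff.2 ?_
      have h1 := mem_centralizer_singleton_iff.1 hy
      calc k⁻¹ * y * k * t = k⁻¹ * (y * (k * t * k⁻¹)) * k := by group
        _ = k⁻¹ * (k * t * k⁻¹ * y) * k := by rw [h1]
        _ = t * (k⁻¹ * y * k) := by group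
    have := mul_mem (mul_mem hk (hCt hyc)) (inv_mem hk)
    rwa [show k * (k⁻¹ * y * k) * k⁻¹ = y by group] at this
  · intro a ha b hb hoa hob _
    obtain ⟨k, hk, rfl⟩ := hto a ha hoa
    obtain ⟨l, hl, rfl⟩ := hto b hb hob
    exact ⟨l * k⁻¹, mul_mem hl (inv_mem hk), by group⟩

/-- A maximal subgroup properly over `C(t)` has no normal `2`-subgroup. -/
theorem pCoreIn_two_eq_bot (hT : Three S) {t : G} (htS : t ∈ (S : Subgroup G)) (ht1 : t ≠ 1)
    {M : Subgroup G} (hM : IsCoatom M) (hCt : centralizer ({t} : Set G) ≤ M)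
    (hne : M ≠ centralizer ({t} : Set G)) : pCoreIn 2 M = ⊥ := by
  classical
  haveI : Fact (Nat.Prime 2) := ⟨Nat.prime_two⟩
  have h := hT.cfg.absyl
  set C := centralizer ({t} : Set G) with hCd
  have htC : t ∈ C := mem_centralizer_singleton_iff.2 rfl
  have hSC : (S : Subgroup G) ≤ C := fun g hg =>
    mem_centralizer_singleton_iff.2 (h.comm S.isPGroup' hg htS).eq
  set W := pCoreIn 2 M with hWd
  have hMW : M ≤ normalizer (W : Set G) := H77.GW.le_normalizer_pCoreIn M
  have hW2 : IsPGroup 2 W := isPGroup_pCoreIn M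
  have hWS : W ≤ (S : Subgroup G) := by
    have hle := hW2.to_sup_of_normal_left' S.isPGroup' ((hSC.trans hCt).trans hMW)
    rw [← S.is_maximal' hle le_sup_right]
    exact le_sup_left
  have htW : t ∉ W := by
    intro htW
    refine hne (le_antisymm (fun m hm => ?_) hCt)
    have hm' : m * t * m⁻¹ ∈ W := (mem_normalizer_iff.1 (hMW hm) t).1 htW
    exact mem_centralizer_singleton_iff.2
      (mul_inv_eq_iff_eq_mul.1 (eq_of_conj_mem hT htS ht1 hM hCt hm (hWS hm')))
  obtain ⟨L, hL, -, hCL, -⟩ := hT.bar t (orderOf_eq_two hT htS ht1) htC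
  have hWC : W ≤ C := hWS.trans hSC
  haveI : (W.subgroupOf C).Normal := (normal_subgroupOf_iff_le_normalizer hWC).2 (hCt.trans hMW)
  set f := QuotientGroup.mk' (Cfsg.oddCore ↥C) with hf
  have hW2' : IsPGroup 2 (W.subgroupOf C) := hW2.comap_of_injective C.subtype C.subtype_injective
  have hWn : ((W.subgroupOf C).map f).Normal :=
    Subgroup.Normal.map inferInstance f (QuotientGroup.mk'_surjective _)
  have hWcore : (W.subgroupOf C).map f ≤ Cfsg.pCore 2 (Bar C) :=
    Components.le_pCore hWn (hW2'.map f)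
  refine (Subgroup.eq_bot_iff_forall _).2 fun w hw => ?_
  have hwC : toBar C ⟨w, hWC hw⟩ ∈ centralizer (L : Set (Bar C)) := fun y hy =>
    (Components.commute_of_commutator_eq_bot Components.layer_commutator_fitting
      (Components.component_le_layer hL hy)
      (Components.pCore_le_fitting 2 (hWcore ⟨⟨w, hWC hw⟩, hw, rfl⟩)))
  rw [hCL, mem_zpowers_iff] at hwC
  obtain ⟨i, hi⟩ := hwC
  have hmem : (⟨t, htC⟩ : ↥C) ^ (-i) * ⟨w, hWC hw⟩ ∈ Cfsg.oddCore ↥C := by
    rw [← QuotientGroup.eq_one_iff]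
    show f _ = 1
    rw [map_mul, map_zpow, zpow_neg]
    exact inv_mul_eq_one.2 hi
  have hodd : Odd (orderOf ((⟨t, htC⟩ : ↥C) ^ (-i) * ⟨w, hWC hw⟩)) :=
    (Cores.odd_card_oddCore (G := ↥C)).of_dvd_nat
      (by simpa using orderOf_dvd_natCard (⟨_, hmem⟩ : Cfsg.oddCore ↥C))
  rw [← Subgroup.orderOf_coe] at hodd
  have hcoe : (((⟨t, htC⟩ : ↥C) ^ (-i) * ⟨w, hWC hw⟩ : ↥C) : G) = t ^ (-i) * w := rfl
  rw [hcoe] at hodd
  have hin : t ^ (-i) * w ∈ (S : Subgroup G) := mul_mem (zpow_mem htS _) (hWS hw)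
  have he : t ^ (-i) * w = 1 := by
    by_contra hne'
    rw [orderOf_eq_two hT hin hne'] at hodd
    exact absurd hodd (by decide)
  have hwt : w = t ^ i := by rwa [zpow_neg, inv_mul_eq_one, eq_comm] at he
  have h2 : t ^ (2 : ℤ) = 1 := by rw [zpow_two]; exact hT.sq t htS
  rcases Int.even_or_odd i with ⟨j, rfl⟩ | ⟨j, rfl⟩
  · rw [hwt, ← two_mul, zpow_mul, h2, one_zpow]
  · exact absurd (by rwa [hwt, zpow_add_one, zpow_mul, h2, one_zpow, one_mul] at hw) htW

/-- **Case II in the rank three setting**: some involution centraliser is maximal, up to the two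
layer facts `hE` and `hLay`. -/
theorem false_caseTwo_of_three (hT : Three S) {t : G} (htS : t ∈ (S : Subgroup G)) (ht1 : t ≠ 1)
    (hnmax : ¬ IsCoatom (centralizer ({t} : Set G)))
    (hE : ∀ M : Subgroup G, IsCoatom M → centralizer ({t} : Set G) ≤ M → Cfsg.layer M = ⊥)
    (hLay : ∀ M : Subgroup G, IsCoatom M → centralizer ({t} : Set G) ≤ M →
      (∀ r : ℕ, r.Prime → Moves t M r →
        centralizer ((⁅pCoreIn r M, zpowers t⁆ : Subgroup G) : Set G) ≤ M) →
      ∀ X : Subgroup G, IsCoatom X → (S : Subgroup G) ≤ X →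
        (∀ r : ℕ, r.Prime → pCoreIn r M ≤ X) → layerIn X ≤ M) : False := by
  haveI := hT.cfg.simple
  obtain ⟨V, hVS, hVnc, htV, hVc, hVtr⟩ := exists_four hT htS ht1
  refine false_of_caseTwo hT.cfg.absyl S htS (orderOf_eq_two hT htS ht1) hVS hVnc htV
    (fun a ha ha1 => ⟨orderOf_eq_two hT (hVS ha) ha1,
      isConj_of_ne_one hT (hVS ha) htS ha1 ht1⟩) ?_ ?_ ?_ hE ?_ hLay
  · intro a ha ha1 b hb hb1
    obtain ⟨c, hc, e⟩ := hVtr a ha ha1 b hb hb1
    exact ⟨c, hc.1, e⟩
  · intro htop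
    obtain ⟨a, ha, ha1⟩ : ∃ a ∈ V, a ≠ 1 := by
      by_contra hno
      push Not at hno
      rw [(Subgroup.eq_bot_iff_forall V).2 hno] at hVc
      simp at hVc
    obtain ⟨g, hg⟩ := isConj_iff.1 (isConj_of_ne_one hT htS (hVS ha) ht1 ha1)
    have hgc := mem_centralizer_singleton_iff.1 (htop.ge (mem_top g))
    rw [hgc, mul_inv_cancel_right] at hg
    exact htV (hg ▸ ha)
  · intro M hM hCt m hm hmS
    exact eq_of_conj_mem hT htS ht1 hM hCt hm hmS
  · intro M hM hCt r _ hr h2
    subst h2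
    exact hr (pCoreIn_two_eq_bot hT htS ht1 hM hCt fun e => hnmax (e ▸ hM))

end Cfsg.Agent.H57.Walter
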