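import Cfsg.Agent.H57.Walter.Fusion
import Cfsg.Agent.H77.GW.Lzero
import Cfsg.Agent.H77.GW.MemberBase

/-!
# Walter programme, rank three, Case II: `C(t)` is not maximal

Every maximal `M` over `C(t)` has no component and Fitting subgroup of odd order, and `t` is its
only `M`-conjugate in `S`.  Then `t` cannot move `F(M)`; so Case II does not occur.
-/

set_option autoImplicit false
set_option linter.unusedSectionVars false

namespace Cfsg.Agent.H57.Walter

open Subgroup Cfsg.Agent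
open Cfsg.Agent.H10.Walter (AbSyl)
open Cfsg.Agent.Components (pCoreIn isPGroup_pCoreIn gFitIn fitIn layerIn)
open Cfsg.Agent.H77.GW (Moves MovedMax)
open scoped commutatorElement

universe u

variable {G : Type u} [Group G] [Finite G]

/-- A maximal subgroup over `C(t)` without components and with odd Fitting subgroup has a moved
prime. -/
theorem exists_moves {M : Subgroup G} {t : G} (hot : orderOf t = 2) (htM : t ∈ M)
    (hEM : Cfsg.layer M = ⊥) (hodd : ∀ r : ℕ, r.Prime → pCoreIn r M ≠ ⊥ → r ≠ 2) :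
    ∃ r : ℕ, r.Prime ∧ Moves t M r := by
  by_contra hno
  push Not at hno
  have h2 : Fact (Nat.Prime 2) := ⟨Nat.prime_two⟩
  have hgen : (⟨t, htM⟩ : M) ∈ Cfsg.fittingSubgroup M := by
    have h := Components.centralizer_genFitting_le (G := ↥M)
      (show (⟨t, htM⟩ : M) ∈ centralizer (Cfsg.generalizedFittingSubgroup M : Set M) by
        rw [Components.genFitting_eq_sup, hEM, bot_sup_eq, Components.fitting_eq_iSup_pCore]
        intro z hz
        have hle : (⨆ q : (Nat.card M).primeFactors, Cfsg.pCore (q : ℕ) M)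
            ≤ centralizer ({(⟨t, htM⟩ : M)} : Set M) := by
          refine iSup_le fun q v hv => mem_centralizer_singleton_iff.2 (Subtype.ext ?_)
          exact mem_centralizer_singleton_iff.1
            (not_not.1 (hno q (Nat.prime_of_mem_primeFactors q.2)) ⟨v, hv, rfl⟩)
        exact mem_centralizer_singleton_iff.1 (hle hz))
    rwa [Components.genFitting_eq_sup, hEM, bot_sup_eq] at h
  have hz : IsPGroup 2 (zpowers (⟨t, htM⟩ : M)) :=
    IsPGroup.of_card (n := 1) (by rw [Nat.card_zpowers, Subgroup.orderOf_mk, hot, pow_one])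
  have hcore := Components.le_pCore_of_le_fitting hz (zpowers_le.2 hgen) (mem_zpowers _)
  refine hodd 2 Nat.prime_two (fun hb => ?_) rfl
  have ht1 : t = 1 := (mem_bot (G := G)).1 (hb.le ⟨_, hcore, rfl⟩)
  rw [ht1, orderOf_one] at hot
  omega

/-- Two maximal subgroups with `F*` of each in the other one, one of them with two primes, are
equal. -/
theorem eq_of_gFit_le [IsSimpleGroup G] {M X : Subgroup G} (hM : IsCoatom M) (hX : IsCoatom X)
    (h₁ : gFitIn X ≤ M) (h₂ : gFitIn M ≤ X) {q r : ℕ} (hqr : q ≠ r) [Fact q.Prime] [Fact r.Prime]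
    (hq : pCoreIn q M ≠ ⊥) (hr : pCoreIn r M ≠ ⊥) : X = M := by
  by_contra hne
  obtain ⟨s, hs, -, hsM⟩ := Components.primitive_pair hne
    (fun A a b c => by rw [H77.GW.normalizer_eq_of_coatom hX a (b.trans inf_le_left) c, inf_comm])
    (fun A a b c => by rw [H77.GW.normalizer_eq_of_coatom hM a (b.trans inf_le_right) c])
    h₁ h₂
  haveI := Fact.mk hs
  have key : ∀ l : ℕ, ∀ _ : Fact l.Prime, pCoreIn l M ≠ ⊥ → l = s := by
    intro l hl hne'
    by_contra hls
    refine hne' ?_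
    have h3 : pCoreIn l M ≤ pCoreIn s M := by
      refine (Components.pCoreIn_le M).trans ?_
      rw [Components.gFitIn, hsM]
    rw [← inf_eq_left.2 h3]
    exact Coprime.inf_eq_bot (H77.GW.coprime_pCoreIn hls M M)
  exact hqr ((key q inferInstance hq).trans (key r inferInstance hr).symm)

/-- **Case II, two primes, uniqueness.** A maximal subgroup over `S` and `F(M)` is `M`. -/
theorem eq_of_over_sylow_fit [IsSimpleGroup G] {M X : Subgroup G} (hM : IsCoatom M)
    (hX : IsCoatom X) (hEM : Cfsg.layer M = ⊥) {t : G} (htt : t * t = 1)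
    (hCt : centralizer ({t} : Set G) ≤ M) (htX : t ∈ X)
    (hFX : ∀ r : ℕ, r.Prime → pCoreIn r M ≤ X)
    (htwo : ∀ p : ℕ, ∃ q : ℕ, q.Prime ∧ q ≠ p ∧ pCoreIn q M ≠ ⊥)
    {s : ℕ} (hs : centralizer ((⁅pCoreIn s M, zpowers t⁆ : Subgroup G) : Set G) ≤ M)
    (hsP : s.Prime) (hLay : layerIn X ≤ M) : X = M := by
  have hgM : gFitIn M ≤ X := H77.GW.gFitIn_le_of_cores hEM hFX
  have hQN : gFitIn M ⊓ normalizer (fitIn M : Set G) ≤ X := inf_le_left.trans hgM
  have hcore : ∀ {r : ℕ}, pCoreIn r M ≠ ⊥ → Cfsg.pCore r M ≠ ⊥ := fun h h' =>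
    h (by rw [pCoreIn, h', Subgroup.map_bot])
  have hXM : ∀ q : ℕ, q.Prime → pCoreIn q X ≤ M := by
    intro q hq
    haveI := Fact.mk hq
    by_cases hb : pCoreIn q M = ⊥
    · rw [H77.GW.pCoreIn_eq_bot_of_leadsTo (s := s) htt htX hCt (le_refl (fitIn M)) hQN hb
        (by rw [inf_eq_left.2 (hFX s hsP)]; exact hs)]
      exact bot_le
    · obtain ⟨l, hl, hlq, hlne⟩ := htwo q
      haveI := Fact.mk hl
      exact Components.pCoreIn_le_of_two_primes
        (fun A a b c => H77.GW.normalizer_eq_of_coatom hM a b c)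
        (le_refl (fitIn M)) hQN (hcore hb) hlq (hcore hlne)
  have hgX : gFitIn X ≤ M := by
    rw [Components.gFitIn, Components.genFitting_eq_sup, Subgroup.map_sup,
      Components.fitting_eq_iSup_pCore, Subgroup.map_iSup]
    exact sup_le hLay (iSup_le fun r => hXM _ (Nat.prime_of_mem_primeFactors r.2))
  obtain ⟨q, hq, -, hqne⟩ := htwo 0
  obtain ⟨r, hr, hrq, hrne⟩ := htwo q
  haveI := Fact.mk hq
  haveI := Fact.mk hr
  exact eq_of_gFit_le hM hX hgX hgM (Ne.symm hrq) hqne hrne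

/-- **Case II, two primes.** -/
theorem false_of_two_primes [IsSimpleGroup G] (h : AbSyl G) (S : Sylow 2 G) {t : G}
    (htS : t ∈ (S : Subgroup G)) (hot : orderOf t = 2)
    {V : Subgroup G} (hVS : V ≤ (S : Subgroup G)) (hVnc : ¬ IsCyclic V) (htV : t ∉ V)
    (hVconj : ∀ a ∈ V, a ≠ 1 → orderOf a = 2 ∧ IsConj a t)
    (htrans : ∀ a ∈ V, a ≠ 1 → ∀ b ∈ V, b ≠ 1 →
      ∃ c ∈ centralizer ({t} : Set G), c * a * c⁻¹ = b)
    {M : Subgroup G} (hM : IsCoatom M) (hCt : centralizer ({t} : Set G) ≤ M)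
    (hiso : ∀ m ∈ M, m * t * m⁻¹ ∈ (S : Subgroup G) → m * t * m⁻¹ = t)
    (hEM : Cfsg.layer M = ⊥) (hodd : ∀ r : ℕ, r.Prime → pCoreIn r M ≠ ⊥ → r ≠ 2)
    (htwo : ∀ p : ℕ, ∃ q : ℕ, q.Prime ∧ q ≠ p ∧ pCoreIn q M ≠ ⊥)
    {s : ℕ} (hs : centralizer ((⁅pCoreIn s M, zpowers t⁆ : Subgroup G) : Set G) ≤ M)
    (hsP : s.Prime)
    (hLay : ∀ X : Subgroup G, IsCoatom X → (S : Subgroup G) ≤ X →
      (∀ r : ℕ, r.Prime → pCoreIn r M ≤ X) → layerIn X ≤ M) : False := by
  have h2 : Fact (Nat.Prime 2) := ⟨Nat.prime_two⟩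
  have htt : t * t = 1 := H39.mul_self_of_orderOf_eq_two hot
  have htM : t ∈ M := hCt (mem_centralizer_singleton_iff.2 rfl)
  have hSM : (S : Subgroup G) ≤ M := fun g hg =>
    hCt (mem_centralizer_singleton_iff.2 (h.comm S.isPGroup' hg htS).eq)
  obtain ⟨v, hvV, hv1⟩ : ∃ v ∈ V, v ≠ 1 := by
    refine (V.bot_or_exists_ne_one).resolve_left fun hb => hVnc ?_
    rw [hb]
    infer_instance
  obtain ⟨-, hvt⟩ := hVconj v hvV hv1
  obtain ⟨g, hg⟩ := isConj_iff.1 hvt.symm
  set φ : MulAut G := MulAut.conj g with hφ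
  set N := M.map φ.toMonoidHom with hNdef
  have hN : IsCoatom N := φ.mapSubgroup.isCoatom_iff M |>.2 hM
  have hCv : centralizer ({v} : Set G) ≤ N := by
    intro y hy
    refine ⟨g⁻¹ * y * g, hCt (mem_centralizer_singleton_iff.2 ?_), by simp [hφ, mul_assoc]⟩
    have h1 : y * v = v * y := mem_centralizer_singleton_iff.1 hy
    calc g⁻¹ * y * g * t = g⁻¹ * (y * (g * t * g⁻¹)) * g := by group
      _ = g⁻¹ * (g * t * g⁻¹ * y) * g := by rw [hg, h1]
      _ = t * (g⁻¹ * y * g) := by group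
  have hne : M ≠ N := by
    intro e
    have hgM : g ∈ M := by
      rw [← H77.GW.normalizer_eq_of_coatom hM (fun hb => by
        have ht1 : t = 1 := (mem_bot (G := G)).1 (hb ▸ htM)
        rw [ht1, orderOf_one] at hot
        omega) le_rfl le_normalizer]
      exact Coprime.mem_normalizer_of_map_conj e.symm
    exact htV ((hiso g hgM (hg ▸ hVS hvV)).symm.trans hg ▸ hvV)
  have hEN : Cfsg.layer N = ⊥ := H77.GW.layer_map_eq_bot φ hEM
  have hsame : ∀ r : ℕ, pCoreIn r N = ⊥ ↔ pCoreIn r M = ⊥ := fun r => by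
    rw [hNdef, ← H77.GW.pCoreIn_map_equiv φ r M, map_eq_bot_iff_of_injective _ φ.injective]
  -- the fixed points of `v` in the centre of `O_r(M)`
  let Z : ℕ → Subgroup G := fun r => pCoreIn r M ⊓ centralizer (pCoreIn r M : Set G)
  let A : ℕ → Subgroup G := fun r => Z r ⊓ centralizer ({v} : Set G)
  have hZn : ∀ r, ∀ y ∈ M, y ∈ normalizer (Z r : Set G) := fun r y hy =>
    inf_normalizer_le_normalizer_inf ⟨H77.GW.le_normalizer_pCoreIn M hy,
      Thompson.normalizer_le_normalizer_centralizer' _ (H77.GW.le_normalizer_pCoreIn M hy)⟩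
  have hAne : ∀ r : ℕ, r.Prime → pCoreIn r M ≠ ⊥ → A r ≠ ⊥ := by
    intro r hr hb hA
    haveI := Fact.mk hr
    haveI : IsMulCommutative V :=
      ⟨⟨fun a b => Subtype.ext (h.comm S.isPGroup' (hVS a.2) (hVS b.2)).eq⟩⟩
    refine H77.GW.inf_centralizer_ne_bot (isPGroup_pCoreIn (p := r) M) (isPGroup_pCoreIn (p := r) M)
      le_normalizer hb (le_bot_iff.1 ?_)
    obtain ⟨i, hi⟩ := IsPGroup.iff_card.mp (S.isPGroup'.to_le hVS)
    obtain ⟨j, hj⟩ := IsPGroup.iff_card.mp
      ((isPGroup_pCoreIn (p := r) M).to_le (inf_le_left : Z r ≤ _))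
    refine Coprime.le_of_centralizer_noncyclic_le hVnc
      (fun y hy => hZn r y (hSM (hVS hy)))
      (by rw [hi, hj]
          exact ((Nat.coprime_primes Nat.prime_two hr).mpr (Ne.symm (hodd r hr hb))).pow _ _) ?_
    rintro a ha ha1 y ⟨hy, hya⟩
    obtain ⟨c, hc, hca⟩ := htrans a ha ha1 v hvV hv1
    have hyA : c * y * c⁻¹ ∈ A r := by
      refine ⟨Coprime.conj_mem (hZn r c (hCt hc)) hy, mem_centralizer_singleton_iff.2 ?_⟩
      rw [← hca]
      calc c * y * c⁻¹ * (c * a * c⁻¹) = c * (y * a) * c⁻¹ := by group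
        _ = c * (a * y) * c⁻¹ := by rw [mem_centralizer_singleton_iff.1 hya]
        _ = c * a * c⁻¹ * (c * y * c⁻¹) := by group
    rw [hA, mem_bot] at hyA
    rw [mem_bot]
    exact conj_eq_one_iff.1 hyA
  have hSA : ∀ r, (S : Subgroup G) ≤ normalizer (A r : Set G) := fun r y hy =>
    inf_normalizer_le_normalizer_inf ⟨hZn r y (hSM hy),
      le_normalizer (mem_centralizer_singleton_iff.2 (h.comm S.isPGroup' hy (hVS hvV)).eq)⟩
  -- `C(A_r) ≤ M`
  have hCA : ∀ r : ℕ, r.Prime → pCoreIn r M ≠ ⊥ → centralizer (A r : Set G) ≤ M := by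
    intro r hr hb
    haveI := Fact.mk hr
    have hAM : A r ≤ M := inf_le_left.trans (inf_le_left.trans (H77.GW.pCoreIn_le_self M))
    have hn : normalizer (A r : Set G) ≠ ⊤ := by
      intro htop
      haveI : (A r).Normal := normalizer_eq_top_iff.mp htop
      rcases IsSimpleGroup.eq_bot_or_eq_top_of_normal (A r) inferInstance with h' | h'
      · exact hAne r hr hb h'
      · exact hM.1 (top_le_iff.mp (h' ▸ hAM))
    obtain ⟨X, hX, hXle⟩ := (eq_top_or_exists_le_coatom _).resolve_left hn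
    have hFX : ∀ l : ℕ, l.Prime → pCoreIn l M ≤ X := by
      intro l hl y hy
      haveI := Fact.mk hl
      refine hXle (centralizer_le_normalizer _ (mem_centralizer_iff.2 fun a ha => ?_))
      by_cases hlr : l = r
      · subst hlr
        exact (mem_centralizer_iff.1 ha.1.2 y hy).symm
      · exact (H77.GW.commute_cross (Ne.symm hlr) ha.1.1 (hAM ha) hy
          (H77.GW.pCoreIn_le_self M hy)).eq
    have hXeq := eq_of_over_sylow_fit hM hX hEM htt hCt (hXle (hSA r htS)) hFX htwo hs hsP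
      (hLay X hX ((hSA r).trans hXle) hFX)
    exact hXeq ▸ (centralizer_le_normalizer _).trans hXle
  -- `O_q(N) ≤ M`
  have hNM : ∀ q : ℕ, q.Prime → pCoreIn q N ≤ M := by
    intro q hq
    haveI := Fact.mk hq
    by_cases hb : pCoreIn q N = ⊥
    · rw [hb]; exact bot_le
    have hbM : pCoreIn q M ≠ ⊥ := fun e => hb ((hsame q).2 e)
    obtain ⟨r, hr, hrq, hrne⟩ := htwo q
    haveI := Fact.mk hr
    have hrA : IsPGroup r (A r) :=
      (isPGroup_pCoreIn (p := r) M).to_le (inf_le_left.trans inf_le_left)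
    obtain ⟨k, hk⟩ := IsPGroup.iff_card.mp hrA
    have hAN : ∀ l, A l ≤ normalizer (pCoreIn q N : Set G) := fun l =>
      inf_le_right.trans (hCv.trans (H77.GW.le_normalizer_pCoreIn N))
    have hle : A r ≤ centralizer (pCoreIn q N : Set G) := by
      refine Coprime.thompson_AxB
        ((isPGroup_pCoreIn (p := q) M).to_le (inf_le_left.trans inf_le_left : A q ≤ _))
        (hk ▸ ((Nat.coprime_primes hr hq).mpr hrq).pow_left k) ?_ _
        (isPGroup_pCoreIn (p := q) N) (hAN q) (hAN r) ?_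
      · intro a ha b hb'
        exact (H77.GW.commute_cross (Ne.symm hrq) ha.1.1 (H77.GW.pCoreIn_le_self M ha.1.1) hb'.1.1
          (H77.GW.pCoreIn_le_self M hb'.1.1)).eq.symm
      · rintro y ⟨hy, hyc⟩ a ha
        exact (H77.GW.commute_cross hrq ha.1.1 (hCv ha.2) hy (hCA q hq hbM hyc)).eq
    exact (le_centralizer_iff.mp hle).trans (hCA r hr hrne)
  obtain ⟨q, hq, -, hqne⟩ := htwo 0
  obtain ⟨r, hr, hrq, hrne⟩ := htwo q
  haveI := Fact.mk hq
  haveI := Fact.mk hr
  refine hne (H77.GW.eq_of_fit_le hM hN hEM hEN (fun l hl => ?_) hNM (Ne.symm hrq)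
    (fun e => hqne ((hsame q).1 e)) fun e => hrne ((hsame r).1 e))
  haveI := Fact.mk hl
  by_cases hb : pCoreIn l M = ⊥
  · rw [hb]; exact bot_le
  have hCf : ∀ i : ℕ, pCoreIn i M ≠ ⊥ → centralizer (pCoreIn i N : Set G) ≤ N := fun i hi =>
    (centralizer_le_normalizer _).trans
      (H77.GW.normalizer_eq_of_coatom hN (fun e => hi ((hsame i).1 e))
        (H77.GW.pCoreIn_le_self N) (H77.GW.le_normalizer_pCoreIn N)).le
  obtain ⟨i, hi, hil, hine⟩ := htwo l
  haveI := Fact.mk hi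
  exact H77.GW.mutual_le hil (hNM l hl) (hNM i hi) (hCf l hb) (hCf i hine)

/-- **Case II is impossible.**  `hLay` may use that the moved commutators have their centralisers
in `M`. -/
theorem false_of_caseTwo [IsSimpleGroup G] (h : AbSyl G) (S : Sylow 2 G) {t : G}
    (htS : t ∈ (S : Subgroup G)) (hot : orderOf t = 2)
    {V : Subgroup G} (hVS : V ≤ (S : Subgroup G)) (hVnc : ¬ IsCyclic V) (htV : t ∉ V)
    (hVconj : ∀ a ∈ V, a ≠ 1 → orderOf a = 2 ∧ IsConj a t)
    (htrans : ∀ a ∈ V, a ≠ 1 → ∀ b ∈ V, b ≠ 1 →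
      ∃ c ∈ centralizer ({t} : Set G), c * a * c⁻¹ = b)
    (hex : centralizer ({t} : Set G) ≠ ⊤)
    (hiso : ∀ M : Subgroup G, IsCoatom M → centralizer ({t} : Set G) ≤ M →
      ∀ m ∈ M, m * t * m⁻¹ ∈ (S : Subgroup G) → m * t * m⁻¹ = t)
    (hE : ∀ M : Subgroup G, IsCoatom M → centralizer ({t} : Set G) ≤ M → Cfsg.layer M = ⊥)
    (hodd : ∀ M : Subgroup G, IsCoatom M → centralizer ({t} : Set G) ≤ M →
      ∀ r : ℕ, r.Prime → pCoreIn r M ≠ ⊥ → r ≠ 2)
    (hLay : ∀ M : Subgroup G, IsCoatom M → centralizer ({t} : Set G) ≤ M →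
      (∀ r : ℕ, r.Prime → Moves t M r →
        centralizer ((⁅pCoreIn r M, zpowers t⁆ : Subgroup G) : Set G) ≤ M) →
      ∀ X : Subgroup G, IsCoatom X → (S : Subgroup G) ≤ X →
        (∀ r : ℕ, r.Prime → pCoreIn r M ≤ X) → layerIn X ≤ M) : False := by
  have htt : t * t = 1 := H39.mul_self_of_orderOf_eq_two hot
  have hmv : ∀ M : Subgroup G, IsCoatom M → centralizer ({t} : Set G) ≤ M →
      ∃ r : ℕ, r.Prime ∧ Moves t M r := fun M hM hC =>
    exists_moves hot (hC (mem_centralizer_singleton_iff.2 rfl)) (hE M hM hC) (hodd M hM hC)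
  let π : Subgroup G → Set ℕ := fun X => {r | r.Prime ∧ Moves t X r}
  have hfin : ∀ X, (π X).Finite := by
    intro X
    refine (Set.finite_Iic (Nat.card G)).subset fun r hr => ?_
    show r ≤ Nat.card G
    haveI := Fact.mk hr.1
    obtain ⟨k, hk⟩ := IsPGroup.iff_card.mp (isPGroup_pCoreIn (p := r) X)
    rcases k with _ | k
    · exact absurd ((eq_bot_of_card_eq _ (by simpa using hk)).le.trans bot_le) hr.2
    · refine Nat.le_of_dvd Nat.card_pos ((dvd_pow_self r k.succ_ne_zero).trans ?_)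
      rw [← hk]
      exact (pCoreIn r X).card_subgroup_dvd_card
  let T := {X : Subgroup G // IsCoatom X ∧ centralizer ({t} : Set G) ≤ X}
  obtain ⟨M₁, hM₁, hC₁⟩ := (eq_top_or_exists_le_coatom _).resolve_left hex
  haveI : Nonempty T := ⟨⟨M₁, hM₁, hC₁⟩⟩
  obtain ⟨⟨M, hM, hCt⟩, hMmax⟩ := Finite.exists_max fun X : T => (π X.1).ncard
  have hmax : MovedMax t M := by
    intro X hX hCX hsub q hq hqX
    have hs : π M ⊆ π X := fun a ha => ⟨ha.1, hsub a ha.1 ha.2⟩
    exact ((Set.eq_of_subset_of_ncard_le hs (hMmax ⟨X, hX, hCX⟩) (hfin X)).symm.le ⟨hq, hqX⟩ :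
      q ∈ π M).2
  obtain ⟨r, hr, hmr⟩ := hmv M hM hCt
  haveI := Fact.mk hr
  by_cases htwo : ∀ p : ℕ, ∃ q : ℕ, q.Prime ∧ q ≠ p ∧ pCoreIn q M ≠ ⊥
  · have hC : ∀ l : ℕ, l.Prime → Moves t M l →
        centralizer ((⁅pCoreIn l M, zpowers t⁆ : Subgroup G) : Set G) ≤ M := fun l hl hml =>
      haveI := Fact.mk hl
      H77.GW.centralizer_commutator_le hM (hE M hM hCt) htt hCt (hodd M hM hCt) htwo hmax
        (fun X hX hCX _ => hE X hX hCX) hml
    exact false_of_two_primes h S htS hot hVS hVnc htV hVconj htrans hM hCt (hiso M hM hCt)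
      (hE M hM hCt) (hodd M hM hCt) htwo (hC r hr hmr) hr (hLay M hM hCt hC)
  push Not at htwo
  obtain ⟨p, hp⟩ := htwo
  have hrb : pCoreIn r M ≠ ⊥ := fun e => hmr (e ▸ bot_le)
  have hpr : r = p := by
    by_contra e
    exact hrb (hp r hr e)
  subst hpr
  have hF : IsPGroup r (fitIn M) := by
    refine (isPGroup_pCoreIn (p := r) M).to_le ?_
    rw [fitIn, Components.fitting_eq_iSup_pCore, Subgroup.map_iSup]
    refine iSup_le fun q => ?_
    by_cases hqr : (q : ℕ) = r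
    · exact hqr ▸ le_rfl
    · exact (hp _ (Nat.prime_of_mem_primeFactors q.2) hqr).le.trans bot_le
  refine hmr fun y hy => mem_centralizer_singleton_iff.2 ?_
  exact (commute_of_prime_fitting h S htS hot hVS hVnc hVconj hM hCt (hiso M hM hCt) (hE M hM hCt)
    (hodd M hM hCt r hr hrb) hF (Subgroup.map_mono (Components.pCore_le_fitting r) hy)).eq

end Cfsg.Agent.H57.Walter
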