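import Cfsg.Agent.H10.Walter.Setting
import Cfsg.Agent.H39.Basic
import Cfsg.Agent.H39.Dihedral
import Cfsg.Agent.Thompson.ZJFusion
import Cfsg.Agent.Components.BenderUnique
import Cfsg.Agent.Coprime.Generation

/-!
# Walter programme: the single-prime case (FUSION)

With abelian Sylow 2-subgroups nothing involves `SL₂(p)`, so `N(Z(J(P)))` controls strong fusion.
If this normaliser lies in `M ≥ C(t)` and `t` is the only conjugate of `t` under `M` in `S`, then
every element of a normal `p`-subgroup of `M` fixed by a conjugate `s ∈ S` of `t` is fixed by `t`.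
-/

set_option autoImplicit false
set_option linter.unusedSectionVars false

namespace Cfsg.Agent.H57.Walter

open Subgroup Cfsg.Agent
open Cfsg.Agent.H10.Walter (AbSyl)
open Cfsg.Agent.Components (fitIn)

universe u

variable {G : Type u} [Group G] [Finite G] {p : ℕ} [hp : Fact p.Prime]

theorem not_hasSection_sl2 (h : AbSyl G) (hp2 : p ≠ 2) :
    ¬ Thompson.HasSection (Matrix.SpecialLinearGroup (Fin 2) (ZMod p)) G := by
  rintro ⟨M, φ, hφ⟩
  obtain ⟨u, w, hQ, hne⟩ := Thompson.exists_sl2_quaternion (p := p) hp2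
  obtain ⟨S', hS'⟩ := hQ.exists_le_sylow
  obtain ⟨S, rfl⟩ := Sylow.mapSurjective_surjective hφ 2 S'
  obtain ⟨m, hm, rfl⟩ := hS' (subset_closure (Set.mem_insert _ _))
  obtain ⟨n, hn, rfl⟩ := hS' (subset_closure (Set.mem_insert_of_mem _ rfl))
  refine hne ?_
  rw [← map_mul, ← map_mul]
  exact congrArg φ ((h.subgroup M).comm S.isPGroup' hm hn).eq

theorem not_hasSection_qd (h : AbSyl G) (hp2 : p ≠ 2) :
    ¬ Thompson.HasSection (Cfsg.qd p) G :=
  fun h' => not_hasSection_sl2 h hp2 (Thompson.hasSection_sl2_of_qd h')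

/-- The fusion lemma. -/
theorem commute_of_fixed (h : AbSyl G) (hp2 : p ≠ 2) (S : Sylow 2 G) {t s : G}
    (htS : t ∈ (S : Subgroup G)) (hot : orderOf t = 2) (hsS : s ∈ (S : Subgroup G))
    (hos : orderOf s = 2) (hconj : IsConj s t) {M F : Subgroup G}
    (hH : centralizer ({t} : Set G) ≤ M)
    (hiso : ∀ m ∈ M, m * t * m⁻¹ ∈ (S : Subgroup G) → m * t * m⁻¹ = t)
    (P : Sylow p G) (hPM : (P : Subgroup G) ≤ M)
    (hZ : normalizer (Thompson.zjay 0 (P : Subgroup G) : Set G) ≤ M)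
    (hF : IsPGroup p F) (hFM : F ≤ M) (hMF : M ≤ normalizer (F : Set G))
    {x : G} (hx : x ∈ F) (hxs : Commute x s) : Commute x t := by
  have h2 : Fact (Nat.Prime 2) := ⟨Nat.prime_two⟩
  have hSM : (S : Subgroup G) ≤ M := fun g hg =>
    hH (mem_centralizer_singleton_iff.2 (h.comm S.isPGroup' hg htS).eq)
  have hsM : s ∈ M := hSM hsS
  have htM : t ∈ M := hSM htS
  set R := M ⊓ centralizer ({s} : Set G) with hR
  obtain ⟨A₀⟩ : Nonempty (Sylow p ↥R) := inferInstance
  set A := (A₀ : Subgroup R).map R.subtype with hA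
  have hAR : A ≤ R := map_subtype_le _
  have hAp : IsPGroup p A := A₀.isPGroup'.map _
  have hAs : ∀ a ∈ A, Commute a s := fun a ha => mem_centralizer_singleton_iff.1 (hAR ha).2
  -- conjugate `A` into `P` and, through `t`, again into `P`
  have hinto : ∀ X : Subgroup G, IsPGroup p X → X ≤ M →
      ∃ m ∈ M, ∀ a ∈ X, m * a * m⁻¹ ∈ (P : Subgroup G) := by
    intro X hX hXM
    obtain ⟨m, hm⟩ := H39.exists_conj_le_sylow
      (hX.comap_of_injective M.subtype M.subtype_injective) (P.subtype hPM)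
    exact ⟨m, m.2, fun a ha => hm ⟨a, hXM ha⟩ ha⟩
  obtain ⟨m₀, hm₀, hm₀A⟩ := hinto A hAp (hAR.trans inf_le_left)
  obtain ⟨g, hg⟩ := isConj_iff.1 hconj
  have hAg : A.map (MulAut.conj g).toMonoidHom ≤ M := by
    rintro _ ⟨a, ha, rfl⟩
    refine hH (mem_centralizer_singleton_iff.2 ?_)
    show g * a * g⁻¹ * t = t * (g * a * g⁻¹)
    rw [← hg]
    exact (hAs a ha).map (MulAut.conj g).toMonoidHom
  obtain ⟨m₁, hm₁, hm₁A⟩ := hinto _ (hAp.map _) hAg
  obtain ⟨n, hn, hna⟩ := Thompson.strongFusion_zjay hp2 (e := 0) (Or.inl rfl) G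
    (not_hasSection_qd h hp2) P ((fun a => m₀ * a * m₀⁻¹) '' (A : Set G)) (m₁ * g * m₀⁻¹)
    (by rintro _ ⟨a, ha, rfl⟩; exact hm₀A a ha)
    (by
      rintro _ ⟨_, ⟨a, ha, rfl⟩, rfl⟩
      have := hm₁A _ ⟨a, ha, rfl⟩
      show _ ∈ (P : Subgroup G)
      simpa [mul_assoc] using this)
  -- an `M`-conjugate `w` of `t` centralising `A`
  set z := m₀⁻¹ * n⁻¹ * (m₁ * g) with hz
  have hk : ∀ a ∈ A, z * a * z⁻¹ = a := by
    intro a ha
    have h1 := hna _ ⟨a, ha, rfl⟩
    calc z * a * z⁻¹ =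
        m₀⁻¹ * (n⁻¹ * (m₁ * g * m₀⁻¹ * (m₀ * a * m₀⁻¹) * (m₁ * g * m₀⁻¹)⁻¹) * n) * m₀ := by
          rw [hz]; group
      _ = a := by rw [← h1]; group
  set k := m₀⁻¹ * n⁻¹ * m₁ with hkdef
  have hkM : k ∈ M := mul_mem (mul_mem (inv_mem hm₀) (inv_mem (hZ hn))) hm₁
  set w := k * t * k⁻¹ with hwdef
  have hwA : ∀ a ∈ A, Commute w a := by
    intro a ha
    have e : w = z * s * z⁻¹ := by rw [hwdef, ← hg, hkdef, hz]; group
    have := (hAs a ha).symm.map (MulAut.conj z).toMonoidHom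
    simpa [e, hk a ha] using this
  -- a Sylow 2-subgroup of `C_M(A)` through `s` contains a conjugate of `w`
  set K := M ⊓ centralizer (A : Set G) with hK
  have hsK : s ∈ K := ⟨hsM, mem_centralizer_iff.2 fun a ha => (hAs a ha).eq⟩
  have hwM : w ∈ M := mul_mem (mul_mem hkM htM) (inv_mem hkM)
  have hwK : w ∈ K := ⟨hwM,
    mem_centralizer_iff.2 fun a ha => (hwA a ha).eq.symm⟩
  have hinvol : ∀ {y : G}, orderOf y = 2 → IsPGroup 2 (zpowers y) := fun hy =>
    IsPGroup.of_card (n := 1) (by rw [Nat.card_zpowers, hy, pow_one])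
  obtain ⟨Q, hQ⟩ := ((hinvol hos).comap_of_injective K.subtype K.subtype_injective).exists_le_sylow
  have hsQ : (⟨s, hsK⟩ : K) ∈ (Q : Subgroup K) := hQ (show s ∈ zpowers s from mem_zpowers s)
  obtain ⟨r, hr⟩ := H39.exists_conj_le_sylow
    ((hinvol (show orderOf w = 2 by rw [hwdef, H39.orderOf_conj, hot])).comap_of_injective
      K.subtype K.subtype_injective) Q
  have hwQ := hr ⟨w, hwK⟩ (show w ∈ zpowers w from mem_zpowers w)
  set w' := (r : G) * w * (r : G)⁻¹ with hw'
  have hw'K : w' ∈ K := mul_mem (mul_mem r.2 hwK) (inv_mem r.2)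
  have hw's : Commute s w' := congrArg Subtype.val ((h.subgroup K).comm Q.isPGroup' hsQ hwQ).eq
  have how' : orderOf w' = 2 := by rw [hw', H39.orderOf_conj, hwdef, H39.orderOf_conj, hot]
  -- move the pair `s`, `w'` into `S` inside `M`
  have hU : IsPGroup 2 ↥(zpowers s ⊔ zpowers w') :=
    (hinvol hos).to_sup_of_normal_left' (hinvol how') (zpowers_le.2
      (centralizer_le_normalizer _ (mem_centralizer_iff.2 fun y hy => by
        obtain ⟨i, rfl⟩ := mem_zpowers_iff.1 hy
        exact (hw's.zpow_left i).eq)))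
  obtain ⟨m, hm⟩ := H39.exists_conj_le_sylow (hU.comap_of_injective M.subtype M.subtype_injective)
    (S.subtype hSM)
  have hms : (m : G) * s * (m : G)⁻¹ ∈ (S : Subgroup G) :=
    hm ⟨s, hsM⟩ (show s ∈ _ from mem_sup_left (mem_zpowers s))
  have hmw : (m : G) * w' * (m : G)⁻¹ ∈ (S : Subgroup G) :=
    hm ⟨w', hw'K.1⟩ (show w' ∈ _ from mem_sup_right (mem_zpowers w'))
  have e1 : (m : G) * w' * (m : G)⁻¹ = t := by
    have e : (m : G) * w' * (m : G)⁻¹ = (m : G) * r * k * t * ((m : G) * r * k)⁻¹ := by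
      rw [hw', hwdef]; group
    rw [e] at hmw ⊢
    exact hiso _ (mul_mem (mul_mem m.2 r.2.1) hkM) hmw
  -- bring `s` back with an element of `N_M(S)`, which fixes `t`
  have : IsMulCommutative ↥((S.subtype hSM : Sylow 2 ↥M) : Subgroup ↥M) :=
    (h.subgroup M) _
  obtain ⟨b, hb, hbe⟩ := (S.subtype hSM : Sylow 2 ↥M).conj_eq_normalizer_conj_of_mem
    ⟨(m : G) * s * (m : G)⁻¹, mul_mem (mul_mem m.2 hsM) (inv_mem m.2)⟩ m hms
    (show (m : G)⁻¹ * ((m : G) * s * (m : G)⁻¹) * (m : G) ∈ (S : Subgroup G) by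
      simpa [mul_assoc] using hsS)
  have hbs : (b : G)⁻¹ * ((m : G) * s * (m : G)⁻¹) * (b : G) = s := by
    have := congrArg Subtype.val hbe
    simpa [mul_assoc] using this.symm
  have hbt : (b : G)⁻¹ * t * (b : G) = t := by
    have hmem := (mem_normalizer_iff''.1 hb ⟨t, htM⟩).1 htS
    simpa using hiso ((b : G)⁻¹) (inv_mem b.2) (by simpa [mem_subgroupOf, mul_assoc] using hmem)
  set m' := (b : G)⁻¹ * (m : G) with hm'
  have hm'M : m' ∈ M := mul_mem (inv_mem b.2) m.2
  have hm's : m' * s * m'⁻¹ = s := by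
    calc m' * s * m'⁻¹ = (b : G)⁻¹ * ((m : G) * s * (m : G)⁻¹) * (b : G) := by rw [hm']; group
      _ = s := hbs
  have hm'w : m' * w' * m'⁻¹ = t := by
    calc m' * w' * m'⁻¹ = (b : G)⁻¹ * ((m : G) * w' * (m : G)⁻¹) * (b : G) := by rw [hm']; group
      _ = t := by rw [e1, hbt]
  have hts : ∀ a ∈ A, Commute (m' * a * m'⁻¹) t := by
    intro a ha
    have h1 : Commute a w' := mem_centralizer_iff.1 hw'K.2 a ha
    have := h1.map (MulAut.conj m').toMonoidHom
    simpa [hm'w] using this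
  -- the fixed part of `F` lies in every Sylow subgroup of `R`
  have hm'R : m' ∈ R :=
    ⟨hm'M, mem_centralizer_singleton_iff.2 (mul_inv_eq_iff_eq_mul.1 hm's)⟩
  set F₀ := F ⊓ centralizer ({s} : Set G) with hF₀
  have hRF₀ : R ≤ normalizer (F₀ : Set G) :=
    (le_inf (inf_le_left.trans hMF) (inf_le_right.trans le_normalizer)).trans
      inf_normalizer_le_normalizer_inf
  have hF₀A : F₀ ≤ A := by
    have hn' : (F₀.subgroupOf R).Normal := normal_subgroupOf_of_le_normalizer hRF₀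
    have h1 : F₀.subgroupOf R ≤ (A₀ : Subgroup R) := (Cores.le_pCore (hN := hn')
      ((hF.to_le inf_le_left).comap_of_injective R.subtype R.subtype_injective)).trans
        (Cores.pCore_le_sylow A₀)
    rw [← map_subgroupOf_eq_of_le (show F₀ ≤ R from inf_le_inf_right _ hFM)]
    exact map_mono h1
  have hx' : m'⁻¹ * x * m' ∈ F₀ :=
    Coprime.conj_mem' (hRF₀ hm'R) ⟨hx, mem_centralizer_singleton_iff.2 hxs.eq⟩
  have := hts _ (hF₀A hx')
  rwa [show m' * (m'⁻¹ * x * m') * m'⁻¹ = x by group] at this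

/-- **Single prime.** If `F(M)` is a `p`-group and `M ≥ C(t)` is maximal without components, then
`t` centralises `F(M)`. -/
theorem commute_of_prime_fitting (h : AbSyl G) [IsSimpleGroup G] (S : Sylow 2 G) {t : G}
    (htS : t ∈ (S : Subgroup G)) (hot : orderOf t = 2)
    {U : Subgroup G} (hUS : U ≤ (S : Subgroup G)) (hUnc : ¬ IsCyclic U)
    (hUconj : ∀ a ∈ U, a ≠ 1 → orderOf a = 2 ∧ IsConj a t)
    {M : Subgroup G} (hM : IsCoatom M) (hH : centralizer ({t} : Set G) ≤ M)
    (hiso : ∀ m ∈ M, m * t * m⁻¹ ∈ (S : Subgroup G) → m * t * m⁻¹ = t)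
    (hE : Cfsg.layer M = ⊥) (hp2 : p ≠ 2) (hF : IsPGroup p (fitIn M))
    {x : G} (hx : x ∈ fitIn M) : Commute x t := by
  have h2 : Fact (Nat.Prime 2) := ⟨Nat.prime_two⟩
  have htM : t ∈ M := hH (mem_centralizer_singleton_iff.2 rfl)
  have hfit : Cfsg.fittingSubgroup M = Cfsg.pCore p M :=
    le_antisymm (Components.le_pCore_of_le_fitting
      ((hF.comap_of_injective M.subtype M.subtype_injective).to_le (le_comap_map _ _)) le_rfl)
      (Components.pCore_le_fitting p)
  have hC : centralizer (Cfsg.pCore p M : Set M) ≤ Cfsg.pCore p M := by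
    have := Components.centralizer_genFitting_le (G := ↥M)
    rwa [Components.genFitting_eq_sup, hE, bot_sup_eq, hfit] at this
  obtain ⟨P⟩ : Nonempty (Sylow p ↥M) := inferInstance
  have hZn := Thompson.zjay_zero_normal hp2 hC
    (Thompson.stableOnNormal_of_qd_free hp2 (not_hasSection_qd (h.subgroup M) hp2)) P
  set P' := (P : Subgroup M).map M.subtype with hP'
  have hP'p : IsPGroup p P' := P.isPGroup'.map _
  have hPne : (P : Subgroup M) ≠ ⊥ := by
    intro h0
    have h1 : Cfsg.pCore p M = ⊥ := le_bot_iff.1 (h0 ▸ Cores.pCore_le_sylow P)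
    rw [h1] at hC
    have htc : (⟨t, htM⟩ : M) ∈ centralizer ((⊥ : Subgroup M) : Set M) :=
      mem_centralizer_iff.2 fun y hy => by rw [mem_bot.1 hy, one_mul, mul_one]
    have e : t = 1 := congrArg Subtype.val (mem_bot.1 (hC htc))
    rw [e, orderOf_one] at hot
    omega
  have hZ : normalizer (Thompson.zjay 0 P' : Set G) = M := by
    refine Components.coatom_normalizer hM _ (Thompson.zjay_ne_bot hP'p
      (fun h0 => hPne ((map_eq_bot_iff_of_injective _ M.subtype_injective).1 h0)) (.inl rfl))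
      (Thompson.zjay_le.trans (map_subtype_le _)) ?_
    rw [Thompson.zjay_map M.subtype M.subtype_injective]
    exact Components.le_normalizer_map_subtype _
  -- `P'` is Sylow in `G`
  obtain ⟨Q, hQ⟩ := hP'p.exists_le_sylow
  have hQP : (Q : Subgroup G) = P' := by
    by_contra hne
    have hlt : P' < Q := lt_of_le_of_ne hQ (Ne.symm hne)
    have hnil : Group.IsNilpotent ↥(Q : Subgroup G) := Q.isPGroup'.isNilpotent
    have hlt' : P'.subgroupOf Q < ⊤ := by
      rw [lt_top_iff_ne_top, Ne, subgroupOf_eq_top]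
      exact fun h => hlt.not_ge h
    obtain ⟨y, hy, hy'⟩ := SetLike.exists_of_lt (Group.normalizerCondition_of_isNilpotent _ hlt')
    rw [← subgroupOf_normalizer_eq hQ, mem_subgroupOf] at hy
    have hyM : (y : G) ∈ M := hZ.le (((Thompson.normalizer_le_normalizer_jay 0 P').trans
      (Thompson.normalizer_jay_le_normalizer_zjay 0 P')) hy)
    have hle : (P : Subgroup M) ≤ (Q : Subgroup G).subgroupOf M := fun z hz => hQ ⟨z, hz, rfl⟩
    have := P.is_maximal' (Q.isPGroup'.comap_of_injective M.subtype M.subtype_injective) hle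
    have hyP : (⟨y, hyM⟩ : M) ∈ (P : Subgroup M) := by
      rw [← this]
      exact y.2
    exact hy' (mem_subgroupOf.2 ⟨⟨y, hyM⟩, hyP, rfl⟩)
  have hFM : fitIn M ≤ M := map_subtype_le _
  have hMF : M ≤ normalizer (fitIn M : Set G) := Components.le_normalizer_map_subtype _
  have hUM : U ≤ M := fun y hy =>
    hH (mem_centralizer_singleton_iff.2 (h.comm S.isPGroup' (hUS hy) htS).eq)
  have : IsMulCommutative U :=
    ⟨⟨fun a b => Subtype.ext (h.comm S.isPGroup' (hUS a.2) (hUS b.2)).eq⟩⟩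
  obtain ⟨i, hi⟩ := IsPGroup.iff_card.mp (S.isPGroup'.to_le hUS)
  obtain ⟨j, hj⟩ := IsPGroup.iff_card.mp hF
  have hcop : (Nat.card U).Coprime (Nat.card (fitIn M)) := by
    rw [hi, hj]
    exact ((Nat.coprime_primes Nat.prime_two Fact.out).mpr (Ne.symm hp2)).pow _ _
  have hle : fitIn M ≤ centralizer ({t} : Set G) := by
    refine Coprime.le_of_centralizer_noncyclic_le hUnc (hUM.trans hMF) hcop
      (M := centralizer ({t} : Set G)) ?_
    rintro a ha ha1 v ⟨hv, hva⟩
    obtain ⟨hoa, hca⟩ := hUconj a ha ha1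
    exact mem_centralizer_singleton_iff.2 (commute_of_fixed h hp2 S htS hot (hUS ha) hoa hca hH hiso
      Q (hQP ▸ map_subtype_le _) (hQP ▸ hZ.le) hF hFM hMF hv
      (mem_centralizer_singleton_iff.1 hva)).eq
  exact mem_centralizer_singleton_iff.1 (hle hx)

end Cfsg.Agent.H57.Walter
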