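import Cfsg.Agent.H10.Walter.Setting
import Cfsg.Agent.H88.Walter.PiecePSL

/-!
# Walter programme: tori of two commuting involutions of `PSL(2, q)` do not commute
-/

set_option autoImplicit false

namespace Cfsg.Agent.H57.Walter

open Subgroup Cfsg.Agent.Linear.Dickson
open Cfsg.Agent.H10.Walter (IsOddPSL)

theorem eq_one_of_odd_sq {M : Type*} [Group M] {x : M} (hx : Odd (orderOf x)) (h : x * x = 1) :
    x = 1 := by
  obtain ⟨k, hk⟩ := hx
  have := pow_orderOf_eq_one x
  rwa [hk, pow_succ, pow_mul, sq, h, one_pow, one_mul] at this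

section PSL

variable {F : Type*} [Field F] [Fintype F]

local notation "P2" => Matrix.ProjectiveSpecialLinearGroup (Fin 2) F

theorem eq_one_or_eq_one_psl {u u' x w : P2} (hodd : Odd (Fintype.card F))
    (hu1 : u ≠ 1) (hu : u * u = 1) (hu'1 : u' ≠ 1) (hu' : u' * u' = 1) (hne : u' ≠ u)
    (huu' : Commute u' u) (hxu : Commute x u)
    (hwu : u * w * u⁻¹ = w⁻¹) (hxw : Commute x w)
    (hxo : Odd (orderOf x)) (hwo : Odd (orderOf w)) : x = 1 ∨ w = 1 := by
  have hN : ∀ g : P2, Commute g u → g ∈ normalizer ((cen u : Subgroup P2) : Set P2) := fun g hg => by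
    rw [← H88.Walter.PSL.centralizer_eq hodd hu1 hu, mem_centralizer_singleton_iff]
    exact hg.eq
  have hnu := H88.Walter.PSL.not_isUni hodd hu1 hu
  obtain ⟨hnot, hinv⟩ := H88.Walter.PSL.inverts hodd hu1 hu huu' hu' hu'1 hne
  by_cases hxc : x ∈ cen u
  · refine or_iff_not_imp_left.2 fun hx1 => eq_one_of_odd_sq hwo ?_
    have hwN : w ∈ normalizer ((cen u : Subgroup P2) : Set P2) := by
      refine mem_normalizer_iff.2 fun y => ?_
      rw [← cen_eq_of_mem hu1 hx1 hxc]
      have h := mem_cen_conj w x y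
      rw [hxw.symm.eq, mul_inv_cancel_right] at h
      exact h.symm
    rw [← H88.Walter.PSL.centralizer_eq hodd hu1 hu, mem_centralizer_singleton_iff] at hwN
    rw [← hwN, mul_inv_cancel_right] at hwu
    exact eq_inv_iff_mul_eq_one.1 hwu
  · refine Or.inl (eq_one_of_odd_sq hxo ?_)
    have hm : x * u' ∈ cen u := inverter_mul_mem hnu (mem_normalizer_iff.1 (hN x hxu))
      (mem_normalizer_iff.1 (hN u' huu')) hxc hnot
    have h := hinv _ hm
    rw [mul_inv_rev, inv_eq_of_mul_eq_one_right hu'] at h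
    have h2 : u' * x = u' * x⁻¹ := by
      calc u' * x = u' * x * (u' * u') := by rw [hu', mul_one]
        _ = u' * (x * u') * u' := by group
        _ = u' * x⁻¹ := h
    exact eq_inv_iff_mul_eq_one.1 (mul_left_cancel h2)

end PSL

/-- In an odd `PSL(2, q)`, commuting elements of odd order, one centralising the
involution `u` of a four group, the other inverted by `u`: one of them is trivial. -/
theorem eq_one_or_eq_one {L : Type*} [Group L] (hL : IsOddPSL L) {u u' x w : L}
    (hu1 : u ≠ 1) (hu : u * u = 1) (hu'1 : u' ≠ 1) (hu' : u' * u' = 1) (hne : u' ≠ u)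
    (huu' : Commute u' u) (hxu : Commute x u)
    (hwu : u * w * u⁻¹ = w⁻¹) (hxw : Commute x w)
    (hxo : Odd (orderOf x)) (hwo : Odd (orderOf w)) : x = 1 ∨ w = 1 := by
  obtain ⟨F, _, _, -, h8, ⟨e⟩⟩ := hL
  have hodd : Odd (Fintype.card F) := Nat.odd_iff.2 (by omega)
  have h := eq_one_or_eq_one_psl (u := e u) (u' := e u') (x := e x) (w := e w) hodd
    (by simpa using hu1) (by rw [← map_mul, hu, map_one])
    (by simpa using hu'1) (by rw [← map_mul, hu', map_one]) (e.injective.ne hne)
    (huu'.map e) (hxu.map e)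
    (by rw [← map_inv, ← map_mul, ← map_mul, hwu, map_inv]) (hxw.map e)
    (by rwa [MulEquiv.orderOf_eq]) (by rwa [MulEquiv.orderOf_eq])
  simpa using h

end Cfsg.Agent.H57.Walter
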