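import Cfsg.Agent.H57.Walter.CaseTwoThree
import Cfsg.Agent.H57.Walter.Tori
import Cfsg.Agent.H36.GW.Layer
import Cfsg.Agent.Cores.GlaubermanZStar

/-!
# Walter programme, rank three: a maximal subgroup properly over `C(t)` has no components

The layer `E` of such an `M` centralises `t`, `O(M)` and `O(C(t))` and covers the component of
`C(t) / O(C(t))`.  An element of `O(M)` inverted by `t` and the torus element it yields in `E`
commute, so one of them lies in the core at an involution of `E`; both lead to `t ∈ E`.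
-/

set_option autoImplicit false
set_option linter.unusedSectionVars false
set_option linter.style.haveILetI false

namespace Cfsg.Agent.H57.Walter

open Subgroup Cfsg.Agent
open Cfsg.Agent.H10.Walter (AbSyl Bar coreAt IsOddPSL)
open Cfsg.Agent.H77.Walter (Three toBar)
open Cfsg.Agent.Components (layerIn)
open scoped commutatorElement

universe u

variable {G : Type u} [Group G] [Finite G] {S : Sylow 2 G}

theorem mem_centralizer_of_sylow (hT : Three S) {a s : G} (ha : a ∈ (S : Subgroup G))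
    (hs : s ∈ (S : Subgroup G)) : s ∈ centralizer ({a} : Set G) :=
  mem_centralizer_singleton_iff.2 (hT.cfg.absyl.comm S.isPGroup' hs ha).eq

theorem inv_eq_self (hT : Three S) {s : G} (hs : s ∈ (S : Subgroup G)) : s⁻¹ = s :=
  inv_eq_of_mul_eq_one_right (hT.sq s hs)

/-- The component of `C(a) / O(C(a))`: normal, every involution of `S` is in `⟨a⟩ × L`, every
perfect subgroup is in `L`. -/
theorem bar_facts (hT : Three S) {a : G} (haS : a ∈ (S : Subgroup G)) (ha1 : a ≠ 1) :
    ∃ L : Subgroup (Bar (centralizer ({a} : Set G))),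
      IsOddPSL ↥L ∧ L.Normal ∧ Cfsg.IsComponent L ∧
      centralizer (L : Set (Bar (centralizer ({a} : Set G)))) =
        zpowers (toBar _ ⟨a, mem_centralizer_of_sylow hT haS haS⟩) ∧
      (∀ s (hs : s ∈ (S : Subgroup G)), ∃ i : ℤ, ∃ l ∈ L,
        toBar _ ⟨s, mem_centralizer_of_sylow hT haS hs⟩ =
          toBar _ ⟨a, mem_centralizer_of_sylow hT haS haS⟩ ^ i * l) ∧
      (∀ P : Subgroup (Bar (centralizer ({a} : Set G))), ⁅P, P⁆ = P → P ≤ L) := by
  haveI : Fact (Nat.Prime 2) := ⟨Nat.prime_two⟩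
  set C := centralizer ({a} : Set G) with hC
  have haC : a ∈ C := mem_centralizer_of_sylow hT haS haS
  obtain ⟨L, hL, hPSL, hCL, hF⟩ := hT.bar a (orderOf_eq_two hT haS ha1) haC
  set ab := toBar C ⟨a, haC⟩ with hab
  have hz : ∀ y : Bar C, Commute ab y := by
    intro y
    obtain ⟨c, rfl⟩ := QuotientGroup.mk'_surjective (Cfsg.oddCore ↥C) y
    exact Commute.map (show Commute (⟨a, haC⟩ : ↥C) c from
      Subtype.ext (mem_centralizer_singleton_iff.1 c.2).symm) _
  have hn : L.Normal := by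
    refine ⟨fun x hx c => ?_⟩
    have hLc := Components.component_conj hL c
    by_cases e : L.map (MulAut.conj c).toMonoidHom = L
    · exact e ▸ ⟨x, hx, rfl⟩
    exfalso
    have h := commutator_eq_bot_iff_le_centralizer.1 (Components.components_commute hLc hL e)
    rw [hCL] at h
    refine Components.qsSub_not_le_of_isSolvable hLc.2 ?_ h
    infer_instance
  refine ⟨L, hPSL, hn, hL, hCL, fun s hs => ?_, fun P hP => ?_⟩
  · set sb := toBar C ⟨s, mem_centralizer_of_sylow hT haS hs⟩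
    have h2 : sb ^ 2 = 1 := by
      rw [← map_pow]
      refine (congrArg (toBar C) (Subtype.ext ?_)).trans (map_one _)
      simp [sq, hT.sq s hs]
    obtain ⟨k, -, hk⟩ := (Nat.dvd_prime_pow Nat.prime_two).1
      (show orderOf sb ∣ 2 ^ 1 by rw [pow_one]; exact orderOf_dvd_of_pow_eq_one h2)
    obtain ⟨T, hTle⟩ := (IsPGroup.of_card (p := 2) (n := k)
      (by rw [Nat.card_zpowers, hk]) : IsPGroup 2 (zpowers sb)).exists_le_sylow
    have hmem := H10.Walter.sylow_le_genFitting (hT.cfg.absyl_bar C) (H10.Walter.oddCore_bar C) T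
      (hTle (mem_zpowers sb))
    rw [hF, mem_sup_of_normal_right] at hmem
    obtain ⟨y, hy, l, hl, hyl⟩ := hmem
    obtain ⟨i, rfl⟩ := mem_zpowers_iff.1 hy
    exact ⟨i, l, hl, hyl.symm⟩
  · -- perfect subgroups are in `⟨a⟩ × L`, hence in `L`
    set F := Cfsg.generalizedFittingSubgroup (Bar C) with hFd
    have hPF : P ≤ F := by
      haveI : Group.IsSolvable (Bar C ⧸ F) := Cfsg.Agent.S0205.result
        (H10.Walter.odd_index_genFitting (hT.cfg.absyl_bar C) (H10.Walter.oddCore_bar C))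
      by_contra hne
      have hm : P.map (QuotientGroup.mk' F) ≠ ⊥ := fun e => hne (by
        rw [Subgroup.map_eq_bot_iff, QuotientGroup.ker_mk'] at e; exact e)
      refine (Group.IsSolvable.commutator_lt_of_ne_bot hm).ne ?_
      rw [← Subgroup.map_commutator, hP]
    rw [← hP]
    refine (commutator_mono hPF hPF).trans (commutator_le.2 fun x hx y hy => ?_)
    rw [hF, mem_sup_of_normal_right] at hx hy
    obtain ⟨x1, hx1, x2, hx2, rfl⟩ := hx
    obtain ⟨y1, hy1, y2, hy2, rfl⟩ := hy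
    obtain ⟨i, rfl⟩ := mem_zpowers_iff.1 hx1
    obtain ⟨j, rfl⟩ := mem_zpowers_iff.1 hy1
    rw [← QuotientGroup.eq_one_iff, ← QuotientGroup.mk'_apply, map_commutatorElement, map_mul,
      map_mul, show QuotientGroup.mk' L x2 = 1 from (QuotientGroup.eq_one_iff x2).2 hx2,
      show QuotientGroup.mk' L y2 = 1 from (QuotientGroup.eq_one_iff y2).2 hy2, mul_one,
      mul_one, commutatorElement_eq_one_iff_commute]
    exact ((hz _).zpow_left i).map _

/-- At an involution `a` of `S`, commuting odd elements of `C(a)`, one centralising `s` and inverted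
by `s'`, the other centralising `s'` and inverted by `s`: one of them is in the core. -/
theorem mem_coreAt_or (hT : Three S) {a s s' x w : G} (haS : a ∈ (S : Subgroup G)) (ha1 : a ≠ 1)
    (hs : s ∈ (S : Subgroup G)) (hs1 : s ≠ 1) (hsa : s ≠ a)
    (hs' : s' ∈ (S : Subgroup G)) (hs'1 : s' ≠ 1) (hs'a : s' ≠ a) (hne : s' ≠ s)
    (hne' : s' ≠ a * s) (hxa : Commute x a) (hwa : Commute w a)
    (hxo : Odd (orderOf x)) (hwo : Odd (orderOf w)) (hxs : Commute x s)
    (hxs' : s' * x * s'⁻¹ = x⁻¹) (hws : s * w * s⁻¹ = w⁻¹) (hxw : Commute x w) :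
    x ∈ coreAt a ∨ w ∈ coreAt a := by
  haveI : Fact (Nat.Prime 2) := ⟨Nat.prime_two⟩
  set C := centralizer ({a} : Set G) with hC
  obtain ⟨L, hPSL, hn, hL, hCL, hproj, -⟩ := bar_facts hT haS ha1
  have hcS : ∀ {r : G}, r ∈ (S : Subgroup G) → r ∈ C := mem_centralizer_of_sylow hT haS
  set f := QuotientGroup.mk' (Cfsg.oddCore ↥C) with hf
  set ab := f ⟨a, hcS haS⟩ with hab
  have hz : ∀ (i : ℤ) (y : Bar C), ab ^ i * y = y * ab ^ i := by
    intro i y
    obtain ⟨c, rfl⟩ := QuotientGroup.mk'_surjective (Cfsg.oddCore ↥C) y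
    exact ((Commute.map (show Commute (⟨a, hcS haS⟩ : ↥C) c from
      Subtype.ext (mem_centralizer_singleton_iff.1 c.2).symm) f).zpow_left i).eq
  -- no two elements of `S` agree in the quotient
  have hinj : ∀ {r : G} (hr : r ∈ (S : Subgroup G)), f ⟨r, hcS hr⟩ = 1 → r = 1 := by
    intro r hr e
    rw [QuotientGroup.mk'_apply, QuotientGroup.eq_one_iff] at e
    by_contra hr1
    have h := (Cores.odd_card_oddCore (G := ↥C)).of_dvd_nat
      (Subgroup.orderOf_dvd_natCard _ e)
    rw [Subgroup.orderOf_mk, orderOf_eq_two hT hr hr1] at h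
    exact absurd h (by decide)
  have hinjA : ∀ {r : G} (hr : r ∈ (S : Subgroup G)) (i : ℤ), f ⟨r, hcS hr⟩ = ab ^ i →
      r = 1 ∨ r = a := by
    intro r hr i e
    have hm : r * (a ^ i)⁻¹ ∈ (S : Subgroup G) := mul_mem hr (inv_mem (zpow_mem haS i))
    have h := hinj hm (by
      rw [show (⟨r * (a ^ i)⁻¹, hcS hm⟩ : ↥C) = ⟨r, hcS hr⟩ * (⟨a, hcS haS⟩ ^ i)⁻¹ from rfl,
        map_mul, map_inv, map_zpow, e, ← hab, mul_inv_cancel])
    have h' : r = a ^ i := mul_inv_eq_one.1 h
    have h2 : a ^ (2 : ℤ) = 1 := by rw [zpow_two]; exact hT.sq a haS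
    rcases Int.even_or_odd i with ⟨j, rfl⟩ | ⟨j, rfl⟩
    · exact Or.inl (by rw [h', ← two_mul, zpow_mul, h2, one_zpow])
    · exact Or.inr (by rw [h', zpow_add_one, zpow_mul, h2, one_zpow, one_mul])
  obtain ⟨i, u, hu, hsu⟩ : ∃ i : ℤ, ∃ l ∈ L, f ⟨s, hcS hs⟩ = ab ^ i * l := hproj s hs
  obtain ⟨i', u', hu', hsu'⟩ : ∃ i : ℤ, ∃ l ∈ L, f ⟨s', hcS hs'⟩ = ab ^ i * l := hproj s' hs'
  have hLC : ∀ z ∈ L, z ∈ centralizer (L : Set (Bar C)) → z = 1 := by
    intro z hzL hzC
    obtain ⟨hsimp, hna⟩ := hT.cfg.component_simple_bar C hL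
    have hmem : (⟨z, hzL⟩ : ↥L) ∈ center ↥L :=
      mem_center_iff.2 fun y => Subtype.ext (mem_centralizer_iff.1 hzC y y.2)
    rw [(hsimp.eq_bot_or_eq_top_of_normal (center ↥L) inferInstance).resolve_right
      (Components.qs_center_ne_top hL.2), mem_bot] at hmem
    exact congrArg Subtype.val hmem
  have husq : ∀ {r : G} (hr : r ∈ (S : Subgroup G)) (i : ℤ) (l : Bar C), l ∈ L →
      f ⟨r, hcS hr⟩ = ab ^ i * l → l * l = 1 := by
    intro r hr i l hl e
    have h1 : (ab ^ (i + i)) * (l * l) = 1 := by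
      rw [zpow_add]
      calc ab ^ i * ab ^ i * (l * l) = ab ^ i * (ab ^ i * l) * l := by group
        _ = ab ^ i * (l * ab ^ i) * l := by rw [← hz]
        _ = ab ^ i * l * (ab ^ i * l) := by group
        _ = f ⟨r * r, mul_mem (hcS hr) (hcS hr)⟩ := by rw [← e, ← map_mul]; rfl
        _ = 1 := (congrArg f (Subtype.ext (hT.sq r hr))).trans (map_one f)
    refine hLC _ (mul_mem hl hl) ?_
    rw [hCL, ← inv_mul_cancel_left (ab ^ (i + i)) (l * l), h1, mul_one]
    exact inv_mem (zpow_mem (mem_zpowers _) _)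
  -- conjugation by the image of `r` is conjugation by its part in `L`
  have hconj : ∀ {r : G} (hr : r ∈ (S : Subgroup G)) (i : ℤ) (l : Bar C),
      f ⟨r, hcS hr⟩ = ab ^ i * l → ∀ y : ↥C,
      f (⟨r, hcS hr⟩ * y * ⟨r, hcS hr⟩⁻¹) = l * f y * l⁻¹ := by
    intro r hr i l e y
    rw [map_mul, map_mul, map_inv, e, mul_inv_rev]
    calc ab ^ i * l * f y * (l⁻¹ * (ab ^ i)⁻¹) = ab ^ i * (l * f y * l⁻¹) * (ab ^ i)⁻¹ := by group
      _ = l * f y * l⁻¹ := by rw [hz, mul_inv_cancel_right]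
  have hxC : x ∈ C := mem_centralizer_singleton_iff.2 hxa.eq
  have hwC : w ∈ C := mem_centralizer_singleton_iff.2 hwa.eq
  have hcommu : Commute u' u := by
    have h := hconj hs' i' u' hsu' ⟨s, hcS hs⟩
    rw [show (⟨s', hcS hs'⟩ : ↥C) * ⟨s, hcS hs⟩ * ⟨s', hcS hs'⟩⁻¹ = ⟨s, hcS hs⟩ from Subtype.ext
      (mul_inv_eq_iff_eq_mul.2 (hT.cfg.absyl.comm S.isPGroup' hs' hs).eq), hsu] at h
    refine mul_inv_eq_iff_eq_mul.1 (mul_left_cancel (a := ab ^ i) ?_)
    conv_rhs => rw [h]
    calc ab ^ i * (u' * u * u'⁻¹) = ab ^ i * u' * (u * u'⁻¹) := by group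
      _ = u' * (ab ^ i * u) * u'⁻¹ := by rw [hz]; group
  have hoddL : ∀ {y : G} (hy : y ∈ C) {r : G} (hr : r ∈ (S : Subgroup G)) (i : ℤ) (l : Bar C),
      l ∈ L → f ⟨r, hcS hr⟩ = ab ^ i * l → Odd (orderOf y) → r * y * r⁻¹ = y⁻¹ →
      f ⟨y, hy⟩ ∈ L ∧ l * f ⟨y, hy⟩ * l⁻¹ = (f ⟨y, hy⟩)⁻¹ ∧ Odd (orderOf (f ⟨y, hy⟩)) := by
    intro y hy r hr i l hl e ho hinv
    have h1 : l * f ⟨y, hy⟩ * l⁻¹ = (f ⟨y, hy⟩)⁻¹ := by
      rw [← hconj hr i l e, ← map_inv]
      exact congrArg f (Subtype.ext hinv)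
    have ho' : Odd (orderOf (f ⟨y, hy⟩)) := Odd.of_dvd_nat ho
      (by simpa using orderOf_map_dvd f (⟨y, hy⟩ : ↥C))
    refine ⟨?_, h1, ho'⟩
    have hsqm : f ⟨y, hy⟩ ^ 2 ∈ L := by
      have h2 : f ⟨y, hy⟩ * l * (f ⟨y, hy⟩)⁻¹ * l⁻¹ = f ⟨y, hy⟩ * (l * f ⟨y, hy⟩ * l⁻¹)⁻¹ := by
        group
      rw [h1, inv_inv, ← sq] at h2
      rw [← h2]
      exact mul_mem (hn.conj_mem l hl _) (inv_mem hl)
    obtain ⟨k, hk⟩ := ho'
    have h3 : f ⟨y, hy⟩ = (f ⟨y, hy⟩ ^ 2) ^ (k + 1) := by
      rw [← pow_mul, show 2 * (k + 1) = orderOf (f ⟨y, hy⟩) + 1 by omega, pow_succ,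
        pow_orderOf_eq_one, one_mul]
    rw [h3]
    exact pow_mem hsqm _
  obtain ⟨hxL, -, hxo'⟩ := hoddL hxC hs' i' u' hu' hsu' hxo hxs'
  obtain ⟨hwL, hwinv, hwo'⟩ := hoddL hwC hs i u hu hsu hwo hws
  have hxu : Commute (f ⟨x, hxC⟩) u := by
    have h := hconj hs i u hsu ⟨x, hxC⟩
    rw [show (⟨s, hcS hs⟩ : ↥C) * ⟨x, hxC⟩ * ⟨s, hcS hs⟩⁻¹ = ⟨x, hxC⟩ from
      Subtype.ext (mul_inv_eq_iff_eq_mul.2 hxs.symm.eq)] at h
    exact (mul_inv_eq_iff_eq_mul.1 h.symm : Commute u (f ⟨x, hxC⟩)).symm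
  have hu1 : u ≠ 1 := fun e => by
    rw [e, mul_one] at hsu
    exact (hinjA hs i hsu).elim hs1 hsa
  have hu'1 : u' ≠ 1 := fun e => by
    rw [e, mul_one] at hsu'
    exact (hinjA hs' i' hsu').elim hs'1 hs'a
  have huu : u' ≠ u := fun e => by
    subst e
    have hm : s' * s⁻¹ ∈ (S : Subgroup G) := mul_mem hs' (inv_mem hs)
    have h := hinjA hm (i' + -i) (by
      rw [show (⟨s' * s⁻¹, hcS hm⟩ : ↥C) = ⟨s', hcS hs'⟩ * ⟨s, hcS hs⟩⁻¹ from rfl, map_mul,
        map_inv, hsu, hsu']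
      group)
    rcases h with h | h
    · exact hne (mul_inv_eq_one.1 h)
    · exact hne' (mul_inv_eq_iff_eq_mul.1 h)
  rcases eq_one_or_eq_one hPSL (u := ⟨u, hu⟩) (u' := ⟨u', hu'⟩) (x := ⟨_, hxL⟩) (w := ⟨_, hwL⟩)
    (fun e => hu1 (congrArg Subtype.val e)) (Subtype.ext (husq hs i u hu hsu))
    (fun e => hu'1 (congrArg Subtype.val e)) (Subtype.ext (husq hs' i' u' hu' hsu'))
    (fun e => huu (congrArg Subtype.val e)) (Subtype.ext hcommu.eq) (Subtype.ext hxu.eq)
    (Subtype.ext hwinv)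
    (Subtype.ext ((show Commute (⟨x, hxC⟩ : ↥C) ⟨w, hwC⟩ from Subtype.ext hxw.eq).map f).eq)
    (by rwa [Subgroup.orderOf_mk]) (by rwa [Subgroup.orderOf_mk]) with e | e
  · exact Or.inl ⟨⟨x, hxC⟩, (QuotientGroup.eq_one_iff _).1 (congrArg Subtype.val e), rfl⟩
  · exact Or.inr ⟨⟨w, hwC⟩, (QuotientGroup.eq_one_iff _).1 (congrArg Subtype.val e), rfl⟩

theorem mem_coreAt_conj {g a y : G} (hy : y ∈ coreAt (g * a * g⁻¹)) :
    g⁻¹ * y * g ∈ coreAt a := by
  have hmap : (centralizer ({g * a * g⁻¹} : Set G)).map (MulAut.conj g⁻¹).toMonoidHom =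
      centralizer ({a} : Set G) := by
    ext z
    simp only [Subgroup.mem_map, MulEquiv.coe_toMonoidHom, MulAut.conj_apply, inv_inv,
      mem_centralizer_singleton_iff]
    constructor
    · rintro ⟨c, h, rfl⟩
      calc g⁻¹ * c * g * a = g⁻¹ * (c * (g * a * g⁻¹)) * g := by group
        _ = a * (g⁻¹ * c * g) := by rw [h]; group
    · intro h
      refine ⟨g * z * g⁻¹, ?_, by group⟩
      calc g * z * g⁻¹ * (g * a * g⁻¹) = g * (z * a) * g⁻¹ := by group
        _ = g * a * g⁻¹ * (g * z * g⁻¹) := by rw [h]; group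
  let e : ↥(centralizer ({g * a * g⁻¹} : Set G)) ≃* ↥(centralizer ({a} : Set G)) :=
    ((MulAut.conj g⁻¹).subgroupMap _).trans (MulEquiv.subgroupCongr hmap)
  obtain ⟨c, hc, rfl⟩ := hy
  refine ⟨e c, ?_, ?_⟩
  · have h := Cores.pPrimeCore_map_mulEquiv (p := 2) e
    exact h.le ⟨c, hc, rfl⟩
  · show (MulAut.conj g⁻¹) (c : G) = _
    simp

/-- A maximal subgroup properly over `C(t)` has no component. -/
theorem layer_eq_bot_of_three (hT : Three S) {t : G} (htS : t ∈ (S : Subgroup G)) (ht1 : t ≠ 1)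
    {M : Subgroup G} (hM : IsCoatom M) (hCt : centralizer ({t} : Set G) ≤ M)
    (hne : M ≠ centralizer ({t} : Set G)) : Cfsg.layer M = ⊥ := by
  classical
  haveI : Fact (Nat.Prime 2) := ⟨Nat.prime_two⟩
  by_contra hE0
  have hab := hT.cfg.absyl
  set C := centralizer ({t} : Set G) with hC
  have hSC : ∀ s ∈ (S : Subgroup G), s ∈ C := fun s hs => mem_centralizer_of_sylow hT htS hs
  have htC : t ∈ C := hSC t htS
  have htM : t ∈ M := hCt htC
  have hot := orderOf_eq_two hT htS ht1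
  have htt := hT.sq t htS
  -- `t` is central modulo `W = O(M)`
  set W := Cfsg.oddCore ↥M with hW
  have hZ : ∀ m : ↥M, ⁅(⟨t, htM⟩ : ↥M), m⁆ ∈ W := by
    intro m
    rw [commutatorElement_def]
    refine Cores.glaubermanZStar (S.subtype ((fun s hs => hCt (hSC s hs)) : (S : Subgroup G) ≤ M))
      (by rwa [Subgroup.orderOf_mk]) htS (fun k hk => Subtype.ext ?_) m
    exact eq_of_conj_mem hT htS ht1 hM hCt k.2 hk
  -- the layer
  set E := layerIn M with hEd
  have hEW : ∀ e ∈ Cfsg.layer ↥M, ∀ w ∈ W, Commute e w := fun e he w hw =>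
    H36.GW.layer_commute_oddCore he hw
  have hEt : ∀ e ∈ Cfsg.layer ↥M, ⁅(⟨t, htM⟩ : ↥M), e⁆ = 1 := by
    let φ : ↥(Cfsg.layer ↥M) →* ↥M :=
      { toFun := fun e => ⁅(⟨t, htM⟩ : ↥M), (e : ↥M)⁆
        map_one' := by simp
        map_mul' := fun a b => by
          show ⁅(⟨t, htM⟩ : ↥M), (a : ↥M) * b⁆ = _
          have hb := hEW _ a.2 _ (hZ b)
          calc ⁅(⟨t, htM⟩ : ↥M), (a : ↥M) * b⁆
              = ⁅(⟨t, htM⟩ : ↥M), (a : ↥M)⁆ *
                ((a : ↥M) * ⁅(⟨t, htM⟩ : ↥M), (b : ↥M)⁆ * (a : ↥M)⁻¹) := by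
                simp only [commutatorElement_def]; group
            _ = _ := by rw [hb.eq, mul_inv_cancel_right] }
    intro e he
    have hker : commutator ↥(Cfsg.layer ↥M) ≤ φ.ker := by
      rw [commutator_def]
      refine commutator_le.2 fun a _ b _ => ?_
      rw [MonoidHom.mem_ker, map_commutatorElement, commutatorElement_eq_one_iff_commute]
      refine (hEW _ ?_ _ (hZ b))
      show ⁅(⟨t, htM⟩ : ↥M), (a : ↥M)⁆ ∈ Cfsg.layer ↥M
      rw [commutatorElement_def]
      exact mul_mem ((inferInstance : (Cfsg.layer ↥M).Normal).conj_mem _ a.2 _) (inv_mem a.2)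
    exact hker ((Group.IsPerfect.commutator_eq_top (G := ↥(Cfsg.layer ↥M))).ge
      (mem_top (⟨e, he⟩ : ↥(Cfsg.layer ↥M))))
  have hEC : E ≤ C := by
    rintro _ ⟨e, he, rfl⟩
    have h := congrArg Subtype.val (hEt e he)
    rw [commutatorElement_def] at h
    simp only [coe_mul, coe_inv, coe_one] at h
    exact mem_centralizer_singleton_iff.2
      (mul_inv_eq_iff_eq_mul.1 (mul_inv_eq_one.1 h)).symm
  have hEn : ∀ m ∈ M, ∀ e ∈ E, m * e * m⁻¹ ∈ E := by
    rintro m hm _ ⟨e, he, rfl⟩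
    exact ⟨⟨m, hm⟩ * e * ⟨m, hm⟩⁻¹,
      (inferInstance : (Cfsg.layer ↥M).Normal).conj_mem e he _, rfl⟩
  -- it centralises `O(C(t))`
  have hED : ∀ e ∈ E, ∀ d ∈ coreAt t, Commute e d := by
    rintro _ ⟨e, he, rfl⟩ d hd
    have hdC : coreAt t ≤ C := map_subtype_le _
    have hsol : Group.IsSolvable ↥((coreAt t).subgroupOf M) := by
      have : Group.IsSolvable ↥(coreAt t) := S0205.result (by
        rw [card_map_of_injective C.subtype_injective]
        exact Cores.odd_card_oddCore)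
      exact Group.isSolvable_of_isSolvable_injective (f := (subgroupOfEquivOfLe
        (hdC.trans hCt)).toMonoidHom) (MulEquiv.injective _)
    have hN : Cfsg.layer ↥M ≤ normalizer (((coreAt t).subgroupOf M : Subgroup ↥M) : Set ↥M) := by
      intro x hx
      have hxN : (x : G) ∈ normalizer ((coreAt t : Subgroup G) : Set G) :=
        Components.le_normalizer_map_subtype _ (hEC ⟨x, hx, rfl⟩)
      exact mem_normalizer_iff.2 fun y => mem_normalizer_iff.1 hxN (y : G)
    have := Components.commute_of_commutator_eq_bot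
      (Components.layer_commutator_solvable hsol hN) he
      (show (⟨d, hCt (hdC hd)⟩ : ↥M) ∈ (coreAt t).subgroupOf M from hd)
    exact congrArg Subtype.val this
  -- it covers the component and misses `t`
  obtain ⟨L, -, hLn, hL, hCL, hproj, hperf⟩ := bar_facts hT htS ht1
  set f := QuotientGroup.mk' (Cfsg.oddCore ↥C) with hf
  set P := (E.subgroupOf C).map f with hP
  have hEE : ⁅E, E⁆ = E := by
    rw [hEd, layerIn, ← map_commutator, Components.layer_perfect]
  have hPP : ⁅P, P⁆ = P := by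
    rw [hP, ← map_commutator]
    congr 1
    refine map_injective C.subtype_injective ?_
    rw [map_commutator, Components.map_subgroupOf hEC, hEE]
  have hPL : P ≤ L := hperf P hPP
  have hP0 : P ≠ ⊥ := by
    intro e
    refine hE0 ((Subgroup.map_eq_bot_iff_of_injective _ M.subtype_injective).1 (?_ : E = ⊥))
    rw [← hEE, commutator_eq_bot_iff_le_centralizer]
    intro x hx y hy
    have hxD : (⟨x, hEC hx⟩ : ↥C) ∈ Cfsg.oddCore ↥C := by
      rw [← QuotientGroup.eq_one_iff]
      exact (mem_bot.1 (e.le ⟨⟨x, hEC hx⟩, hx, rfl⟩ :) : f ⟨x, hEC hx⟩ = 1)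
    exact (hED y hy x ⟨_, hxD, rfl⟩).eq
  have hLP : L ≤ P := by
    have : P.Normal := by
      refine Subgroup.Normal.map ?_ f (QuotientGroup.mk'_surjective _)
      exact ⟨fun x hx c => hEn c (hCt c.2) x hx⟩
    refine (Components.component_le_or_commutator_eq_bot_normal hL P).resolve_right fun h => hP0 ?_
    have hc : P ≤ centralizer (L : Set (Bar C)) := by
      rw [← commutator_eq_bot_iff_le_centralizer, commutator_comm]; exact h
    rw [hCL] at hc
    rw [← hPP, commutator_eq_bot_iff_le_centralizer]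
    intro x hx y hy
    obtain ⟨i, hi⟩ := mem_zpowers_iff.1 (hc hx)
    obtain ⟨j, hj⟩ := mem_zpowers_iff.1 (hc hy)
    rw [← hi, ← hj]
    exact (Commute.zpow_zpow_self _ _ _).eq
  have htE : t ∉ E := by
    intro h
    have htL : f ⟨t, htC⟩ ∈ L := hPL ⟨⟨t, htC⟩, h, rfl⟩
    obtain ⟨hsimp, -⟩ := hT.cfg.component_simple_bar C hL
    have hmem : (⟨f ⟨t, htC⟩, htL⟩ : ↥L) ∈ center ↥L := mem_center_iff.2 fun y => Subtype.ext (by
      have : f ⟨t, htC⟩ ∈ centralizer (L : Set (Bar C)) := hCL.ge (mem_zpowers _)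
      exact mem_centralizer_iff.1 this y y.2)
    rw [(hsimp.eq_bot_or_eq_top_of_normal (center ↥L) inferInstance).resolve_right
      (Components.qs_center_ne_top hL.2), mem_bot] at hmem
    have he : f ⟨t, htC⟩ = 1 := congrArg Subtype.val hmem
    rw [hf, QuotientGroup.mk'_apply, QuotientGroup.eq_one_iff] at he
    have := (Cores.odd_card_oddCore (G := ↥C)).of_dvd_nat (Subgroup.orderOf_dvd_natCard _ he)
    rw [Subgroup.orderOf_mk, hot] at this
    exact absurd this (by decide)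
  have hsplit : ∀ s ∈ (S : Subgroup G), s ∈ E ∨ t * s ∈ E := by
    intro s hs
    obtain ⟨i, l, hl, hsl⟩ := hproj s hs
    obtain ⟨e, he, rfl⟩ := hLP hl
    have hd : (⟨t, htC⟩ : ↥C) ^ (-i) * ⟨s, hSC s hs⟩ * e⁻¹ ∈ Cfsg.oddCore ↥C := by
      rw [← QuotientGroup.eq_one_iff]
      show f _ = 1
      rw [map_mul, map_mul, map_inv, map_zpow, show f ⟨s, hSC s hs⟩ = f ⟨t, htC⟩ ^ i * f e from hsl]
      group
    set r := t ^ (-i) * s with hr
    have hrS : r ∈ (S : Subgroup G) := mul_mem (zpow_mem htS _) hs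
    have hdD : r * (e : G)⁻¹ ∈ coreAt t := ⟨_, hd, rfl⟩
    have heE : (e : G) ∈ E := he
    have hcom : Commute (e : G) (r * (e : G)⁻¹) := hED _ heE _ hdD
    obtain ⟨k, hk⟩ : Odd (orderOf (r * (e : G)⁻¹)) := by
      refine (Cores.odd_card_oddCore (G := ↥C)).of_dvd_nat ?_
      have h := Subgroup.orderOf_dvd_natCard _ hd
      rwa [← Subgroup.orderOf_coe] at h
    have hrE : r ∈ E := by
      have h1 : r ^ (2 * k + 1) = (e : G) ^ (2 * k + 1) := by
        conv_lhs => rw [show r = (r * (e : G)⁻¹) * e by group]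
        rw [hcom.symm.mul_pow, ← hk, pow_orderOf_eq_one, one_mul]
      rw [pow_succ r, pow_mul, sq, hT.sq r hrS, one_pow, one_mul] at h1
      exact h1 ▸ pow_mem heE _
    have h2 : t ^ (2 : ℤ) = 1 := by rw [zpow_two]; exact htt
    rcases Int.even_or_odd (-i) with ⟨j, hj⟩ | ⟨j, hj⟩
    · left
      rwa [hr, hj, ← two_mul, zpow_mul, h2, one_zpow, one_mul] at hrE
    · right
      rwa [hr, hj, zpow_add_one, zpow_mul, h2, one_zpow, one_mul] at hrE
  -- every `s ∈ S` has a part in `E`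
  have hpart : ∀ s ∈ (S : Subgroup G), ∃ s' ∈ E, s' ∈ (S : Subgroup G) ∧ (s' = s ∨ s' = t * s) :=
    fun s hs => (hsplit s hs).elim (fun h => ⟨s, h, hs, Or.inl rfl⟩)
      (fun h => ⟨t * s, h, mul_mem htS hs, Or.inr rfl⟩)
  have hcardE : Nat.card ↥(E ⊓ (S : Subgroup G)) = 4 := by
    have hle : E ⊓ (S : Subgroup G) ≤ (S : Subgroup G) := inf_le_right
    have hidx : ((E ⊓ (S : Subgroup G)).subgroupOf (S : Subgroup G)).index = 2 := by
      refine index_eq_two_iff.2 ⟨⟨t, htS⟩, fun b => ?_⟩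
      simp only [mem_subgroupOf, coe_mul, mem_inf]
      have hbS : (b : G) * t ∈ (S : Subgroup G) := mul_mem b.2 htS
      by_cases hb : (b : G) ∈ E
      · exact Or.inr ⟨⟨hb, b.2⟩, fun h => htE (by
          simpa using mul_mem (inv_mem hb) h.1)⟩
      · refine Or.inl ⟨⟨?_, hbS⟩, fun h => hb h.1⟩
        rw [(hab.comm S.isPGroup' b.2 htS).eq]
        exact (hsplit b b.2).resolve_left hb
    have h1 := ((E ⊓ (S : Subgroup G)).subgroupOf (S : Subgroup G)).index_mul_card
    rw [Nat.card_congr (subgroupOfEquivOfLe hle).toEquiv, hidx, hT.card_eight] at h1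
    omega
  have hfive : ∀ {a b e : G}, a ∈ E → a ∈ (S : Subgroup G) → b ∈ E → b ∈ (S : Subgroup G) →
      e ∈ E → e ∈ (S : Subgroup G) → a ≠ 1 → b ≠ 1 → a ≠ b →
      e = 1 ∨ e = a ∨ e = b ∨ e = a * b := by
    intro a b e ha haS hb hbS he heS ha1 hb1 hab'
    by_contra hno
    push Not at hno
    have hsub : ({1, a, b, a * b, e} : Finset G) ⊆
        ((E ⊓ (S : Subgroup G) : Subgroup G) : Set G).toFinite.toFinset := by
      intro y hy
      simp only [Finset.mem_insert, Finset.mem_singleton] at hy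
      simp only [Set.Finite.mem_toFinset, SetLike.mem_coe, mem_inf]
      rcases hy with rfl | rfl | rfl | rfl | rfl
      exacts [⟨one_mem _, one_mem _⟩, ⟨ha, haS⟩, ⟨hb, hbS⟩, ⟨mul_mem ha hb, mul_mem haS hbS⟩,
        ⟨he, heS⟩]
    have hne1 : (1 : G) ≠ a * b := fun h => hab' (by
      rw [← inv_eq_self hT hbS]; exact eq_inv_of_mul_eq_one_left h.symm)
    have h5 : ({1, a, b, a * b, e} : Finset G).card = 5 := by
      simp [Ne.symm ha1, Ne.symm hb1, hab', hne1, ha1, hb1, Ne.symm hno.1, Ne.symm hno.2.1,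
        Ne.symm hno.2.2.1, Ne.symm hno.2.2.2]
    have h6 := Finset.card_le_card hsub
    rw [h5, ← Nat.card_eq_card_finite_toFinset] at h6
    simp only [SetLike.coe_sort_coe] at h6
    omega
  have hWt : ∀ m : ↥M, m ∈ W → ∀ s ∈ E, Commute (m : G) s := by
    rintro m hm _ ⟨e, he, rfl⟩
    exact congrArg Subtype.val (hEW e he m hm).symm.eq
  have hWodd : ∀ m : ↥M, m ∈ W → Odd (orderOf (m : G)) := fun m hm => by
    rw [Subgroup.orderOf_coe]
    exact (Cores.odd_card_oddCore (G := ↥M)).of_dvd_nat (Subgroup.orderOf_dvd_natCard _ hm)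
  -- an element of `W` inverted by `t` in the core at an involution of `E` is trivial
  have hclaim : ∀ {w v : G}, (∀ s ∈ E, Commute w s) → Odd (orderOf w) → t * w * t⁻¹ = w⁻¹ →
      v ∈ E → v ∈ (S : Subgroup G) → v ≠ 1 → w ∈ coreAt v → w = 1 := by
    intro w v hwE hwo hwt hvE hvS hv1 hwv
    by_contra hw1
    obtain ⟨g, hgN, hgv⟩ := hT.trans t htS v hvS ht1 hv1
    have hw' : g⁻¹ * w * g ∈ coreAt t := mem_coreAt_conj (by rw [hgv]; exact hwv)
    have hle : (E ⊓ (S : Subgroup G)).map (MulAut.conj g).toMonoidHom ≤ E ⊓ (S : Subgroup G) := by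
      rintro _ ⟨e, ⟨heE, heS⟩, rfl⟩
      have hgS : g * e * g⁻¹ ∈ (S : Subgroup G) := (mem_normalizer_iff.1 hgN e).1 heS
      refine ⟨(hsplit _ hgS).resolve_right fun hte => hw1 ?_, hgS⟩
      have hge : Commute w (g * e * g⁻¹) := by
        have h := (hED e heE _ hw').symm.map (MulAut.conj g).toMonoidHom
        simp only [MulEquiv.coe_toMonoidHom, MulAut.conj_apply] at h
        rwa [show g * (g⁻¹ * w * g) * g⁻¹ = w by group] at h
      have hwtc : Commute w t := by
        have h := (hwE _ hte).mul_right hge.inv_right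
        rwa [mul_inv_cancel_right] at h
      rw [hwtc.symm.eq, mul_inv_cancel_right] at hwt
      exact eq_one_of_odd_sq hwo (eq_inv_iff_mul_eq_one.1 hwt)
    have heq := eq_of_le_of_card_ge hle
      (card_map_of_injective (MulAut.conj g).injective).ge
    obtain ⟨e, ⟨heE, -⟩, heq'⟩ := heq.ge (⟨hvE, hvS⟩ : v ∈ E ⊓ (S : Subgroup G))
    have h2 : g * e * g⁻¹ = g * t * g⁻¹ := heq'.trans hgv.symm
    exact htE ((mul_left_cancel (mul_right_cancel h2)) ▸ heE)
  -- `t` centralises `W`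
  have hWc : ∀ m : ↥M, m ∈ W → ⁅(⟨t, htM⟩ : ↥M), m⁆ = 1 := by
    intro m hm
    set w0 := ⁅(⟨t, htM⟩ : ↥M), m⁆ with hw0
    refine Subtype.ext ?_
    set w := (w0 : G) with hwd
    have hwW : w0 ∈ W := hZ m
    have hwE : ∀ s ∈ E, Commute w s := hWt w0 hwW
    have hwo : Odd (orderOf w) := hWodd w0 hwW
    have hwt : t * w * t⁻¹ = w⁻¹ := by
      rw [hwd, hw0]
      simp only [commutatorElement_def, coe_mul, coe_inv, inv_eq_self hT htS]
      calc t * (t * m * t * (m : G)⁻¹) * t = (t * t) * m * t * (m : G)⁻¹ * t := by group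
        _ = (t * m * t * (m : G)⁻¹)⁻¹ := by
          rw [htt, mul_inv_rev, mul_inv_rev, mul_inv_rev, inv_inv, inv_eq_self hT htS]; group
    by_contra hw1
    obtain ⟨v0, hv0, hv01⟩ : ∃ v0 ∈ E ⊓ (S : Subgroup G), v0 ≠ 1 := by
      by_contra hno
      push Not at hno
      rw [(eq_bot_iff_forall _).2 hno] at hcardE
      simp at hcardE
    obtain ⟨hvE, hvS⟩ := hv0
    -- conjugate `w` into `C(t)`: a torus element of `E`
    obtain ⟨g, hgN, hgv⟩ := hT.trans t htS v0 hvS ht1 hv01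
    set z := g⁻¹ * w * g with hz
    have hzt : Commute z t := by
      have h := (hwE v0 hvE).map (MulAut.conj g⁻¹).toMonoidHom
      simp only [MulEquiv.coe_toMonoidHom, MulAut.conj_apply, inv_inv] at h
      rwa [← hgv, show g⁻¹ * (g * t * g⁻¹) * g = t by group] at h
    have hzo : Odd (orderOf z) := by
      have h := orderOf_injective (MulAut.conj g⁻¹).toMonoidHom (MulAut.conj g⁻¹).injective w
      simp only [MulEquiv.coe_toMonoidHom, MulAut.conj_apply, inv_inv] at h
      rwa [hz, h]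
    have hz1 : z ≠ 1 := fun e => hw1 (by
      rw [show w = g * z * g⁻¹ by rw [hz]; group, e]; simp)
    have hcS : ∀ {x : G}, x ∈ (S : Subgroup G) → g⁻¹ * x * g ∈ (S : Subgroup G) := fun {x} hx =>
      (mem_normalizer_iff''.1 hgN x).1 hx
    -- the inverting and the centralising part
    set b0 := g⁻¹ * t * g with hb0
    have hzb : b0 * z * b0⁻¹ = z⁻¹ := by
      rw [hb0, hz]
      calc g⁻¹ * t * g * (g⁻¹ * w * g) * (g⁻¹ * t * g)⁻¹ = g⁻¹ * (t * w * t⁻¹) * g := by group
        _ = (g⁻¹ * w * g)⁻¹ := by rw [hwt]; group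
    obtain ⟨b, hbE, hbS, hb⟩ := hpart b0 (hcS htS)
    have hzb' : b * z * b⁻¹ = z⁻¹ := by
      rcases hb with rfl | rfl
      · exact hzb
      · calc t * b0 * z * (t * b0)⁻¹ = t * (b0 * z * b0⁻¹) * t⁻¹ := by group
          _ = z⁻¹ := by rw [hzb, hzt.inv_left.symm.eq, mul_inv_cancel_right]
    have hb1 : b ≠ 1 := fun e => by
      rw [e, one_mul, inv_one, mul_one] at hzb'
      exact hz1 (eq_one_of_odd_sq hzo (eq_inv_iff_mul_eq_one.1 hzb'))
    obtain ⟨u, ⟨huE, huS⟩, hu1, huv⟩ : ∃ u ∈ E ⊓ (S : Subgroup G), u ≠ 1 ∧ u ≠ v0 := by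
      by_contra hno
      push Not at hno
      have hsub : ((E ⊓ (S : Subgroup G) : Subgroup G) : Set G) ⊆ {1, v0} := fun y hy => by
        by_cases hy1 : y = 1
        · exact Or.inl hy1
        · exact Or.inr (hno y hy hy1)
      have := Set.ncard_le_ncard hsub
      rw [← Nat.card_coe_set_eq] at this
      simp only [SetLike.coe_sort_coe] at this
      rw [hcardE] at this
      have := this.trans (Set.ncard_insert_le _ _)
      simp at this
    set a0 := g⁻¹ * u * g with ha0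
    have hza : Commute z a0 := by
      have h := (hwE u huE).map (MulAut.conj g⁻¹).toMonoidHom
      simpa only [MulEquiv.coe_toMonoidHom, MulAut.conj_apply, inv_inv] using h
    obtain ⟨a, haE, haS, ha⟩ := hpart a0 (hcS huS)
    have ha1 : a ≠ 1 := by
      rcases ha with rfl | rfl
      · exact fun e => hu1 (by rw [show u = g * a0 * g⁻¹ by rw [ha0]; group, e]; simp)
      · intro e
        refine huv ?_
        have h' : a0 = t := by
          rw [← inv_eq_of_mul_eq_one_right e, inv_eq_self hT htS]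
        rw [← hgv, ← h', ha0]; group
    have hza' : Commute z a := by
      rcases ha with rfl | rfl
      · exact hza
      · exact hzt.mul_right hza
    have hab' : a ≠ b := fun e => by
      rw [← e, hza'.symm.eq, mul_inv_cancel_right] at hzb'
      exact hz1 (eq_one_of_odd_sq hzo (eq_inv_iff_mul_eq_one.1 hzb'))
    have hzC : z ∈ M := hCt (mem_centralizer_singleton_iff.2 hzt.eq)
    set x := z * z with hx
    have hxE : x ∈ E := by
      have h : z * z = z * b * z⁻¹ * b⁻¹ := by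
        calc z * z = z * (b * z * b⁻¹)⁻¹ := by rw [hzb', inv_inv]
          _ = z * b * z⁻¹ * b⁻¹ := by group
      rw [hx, h]
      exact mul_mem (hEn z hzC b hbE) (inv_mem hbE)
    have hxw : Commute x w := (hwE x hxE).symm
    have hxo : Odd (orderOf x) := Odd.of_dvd_nat hzo (by
      rw [hx, ← sq]; exact orderOf_pow_dvd 2)
    have hx1 : x ≠ 1 := fun e => hz1 (eq_one_of_odd_sq hzo e)
    have hxt : Commute x t := hzt.mul_left hzt
    have hxa : Commute x a := hza'.mul_left hza'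
    have hxb : b * x * b⁻¹ = x⁻¹ := by
      rw [hx]
      calc b * (z * z) * b⁻¹ = (b * z * b⁻¹) * (b * z * b⁻¹) := by group
        _ = (z * z)⁻¹ := by rw [hzb']; group
    have hne1 : ∀ {r : G}, r ∈ E → t ≠ r := fun hr e => htE (e ▸ hr)
    rcases mem_coreAt_or hT (a := a) (s := t) (s' := b) (x := x) (w := w) haS ha1 htS ht1
      (hne1 haE) hbS hb1 hab'.symm (Ne.symm (hne1 hbE))
      (fun e => htE (by simpa [e, ← mul_assoc, hT.sq a haS] using mul_mem haE hbE))
      hxa (hwE a haE) hxo hwo hxt hxb hwt hxw with hxD | hwD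
    · -- the core at `a` centralises a four group avoiding `a`
      obtain ⟨k, hkN, hka⟩ := hT.trans t htS a haS ht1 ha1
      have hx' : k⁻¹ * x * k ∈ coreAt t := mem_coreAt_conj (by rw [hka]; exact hxD)
      have himg : ∀ e ∈ E, e ∈ (S : Subgroup G) → e ≠ 1 →
          k * e * k⁻¹ = t ∨ k * e * k⁻¹ = t * a := by
        intro e heE heS he1
        have hy1 : k * e * k⁻¹ ≠ 1 := fun h => he1 (conj_eq_one_iff.1 h)
        have hya : k * e * k⁻¹ ≠ a := fun h => htE ((mul_left_cancel (mul_right_cancel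
          (h.trans hka.symm))) ▸ heE)
        have hyS : k * e * k⁻¹ ∈ (S : Subgroup G) := (mem_normalizer_iff.1 hkN e).1 heS
        have hxy : Commute x (k * e * k⁻¹) := by
          have h := (hED e heE _ hx').symm.map (MulAut.conj k).toMonoidHom
          simp only [MulEquiv.coe_toMonoidHom, MulAut.conj_apply] at h
          rwa [show k * (k⁻¹ * x * k) * k⁻¹ = x by group] at h
        obtain ⟨r, hrE, hrS, hr⟩ := hpart _ hyS
        have hxr : Commute x r := by
          rcases hr with rfl | rfl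
          · exact hxy
          · exact hxt.mul_right hxy
        have hrb : r ≠ b := fun h => hx1 (eq_one_of_odd_sq hxo (eq_inv_iff_mul_eq_one.1 (by
          rw [← hxb, ← h, hxr.symm.eq, mul_inv_cancel_right])))
        have hrab : r ≠ a * b := fun h => hx1 (eq_one_of_odd_sq hxo (eq_inv_iff_mul_eq_one.1 (by
          have hb' : Commute x b := by
            have := hxa.inv_right.mul_right hxr
            rwa [h, inv_mul_cancel_left] at this
          rw [← hxb, hb'.symm.eq, mul_inv_cancel_right])))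
        rcases hfive haE haS hbE hbS hrE hrS ha1 hb1 hab' with h | h | h | h
        · rcases hr with e' | e'
          · exact absurd (e'.symm.trans h) hy1
          · refine Or.inl ?_
            rw [← inv_eq_of_mul_eq_one_right (e'.symm.trans h), inv_eq_self hT htS]
        · rcases hr with e' | e'
          · exact absurd (e'.symm.trans h) hya
          · refine Or.inr ?_
            rw [← h, e', ← mul_assoc, htt, one_mul]
        · exact absurd h hrb
        · exact absurd h hrab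
      have hA := himg a haE haS ha1
      have hB := himg b hbE hbS hb1
      have hprod := himg (a * b) (mul_mem haE hbE) (mul_mem haS hbS) (fun h => hab' (by
        rw [← inv_eq_self hT hbS]; exact eq_inv_of_mul_eq_one_left h))
      have hneq : k * a * k⁻¹ ≠ k * b * k⁻¹ := fun h => hab' (mul_left_cancel (mul_right_cancel h))
      have hpm : k * (a * b) * k⁻¹ = k * a * k⁻¹ * (k * b * k⁻¹) := by group
      have hta : t * a = a * t := (hab.comm S.isPGroup' htS haS).eq
      have hne2 : a ≠ t := Ne.symm (hne1 haE)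
      have hprod' : k * (a * b) * k⁻¹ = a := by
        rcases hA with hA | hA <;> rcases hB with hB | hB
        · exact absurd (hA.trans hB.symm) hneq
        · rw [hpm, hA, hB, ← mul_assoc, htt, one_mul]
        · rw [hpm, hA, hB, hta, mul_assoc, htt, mul_one]
        · exact absurd (hA.trans hB.symm) hneq
      rw [hprod'] at hprod
      rcases hprod with h | h
      · exact hne2 h
      · exact ht1 (mul_eq_right.1 h.symm)
    · exact hw1 (hclaim hwE hwo hwt haE haS ha1 hwD)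
  -- so `M = C(t)`
  refine hne (le_antisymm (fun m hm => mem_centralizer_singleton_iff.2 ?_) hCt)
  set c := ⁅(⟨t, htM⟩ : ↥M), (⟨m, hm⟩ : ↥M)⁆ with hc
  have hct : Commute t (c : G) := by
    have := congrArg Subtype.val (hWc c (hZ _))
    exact commutatorElement_eq_one_iff_commute.1 (by simpa [commutatorElement_def] using this)
  have hc1 : (c : G) = 1 := by
    refine eq_one_of_odd_sq (hWodd c (hZ _)) ?_
    have hcv : (c : G) = t * (m * t * m⁻¹) := by
      simp [hc, commutatorElement_def, inv_eq_self hT htS, mul_assoc]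
    have hinv : (t * c) * (t * c) = 1 := by
      rw [hcv, ← mul_assoc t t, htt, one_mul]
      calc m * t * m⁻¹ * (m * t * m⁻¹) = m * (t * t) * m⁻¹ := by group
        _ = 1 := by rw [htt]; group
    calc (c : G) * c = t * t * (c * c) := by rw [htt, one_mul]
      _ = t * (t * c) * c := by group
      _ = t * (c * t) * c := by rw [hct.eq]
      _ = (t * c) * (t * c) := by group
      _ = 1 := hinv
  have hc2 : t * m * t⁻¹ * m⁻¹ = 1 := by
    rw [← hc1, hc]; rfl
  exact (mul_inv_eq_iff_eq_mul.1 (mul_inv_eq_one.1 hc2)).symm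


end Cfsg.Agent.H57.Walter
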