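import Cfsg.Agent.H57.Walter.LayThree
import Cfsg.Agent.H70.Balanced.Graph
import Cfsg.Agent.Fusion.Basic

/-!
# Walter programme, rank three: the setting follows from the hypotheses of the cores step

A component of `C(a) / O(C(a))` has a piece of order four, so is an odd `PSL₂`; by `Z*` the
normaliser of `S` moves `a`, so `S` is elementary of order eight and its normaliser is transitive.
-/

set_option autoImplicit false
set_option linter.unusedSectionVars false
set_option linter.style.haveILetI false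

namespace Cfsg.Agent.H57.Walter

open Subgroup Cfsg.Agent
open Cfsg.Agent.H10.Walter (AbSyl Bar IsOddPSL Cfg NoSE HasComp)
open Cfsg.Agent.H77.Walter (Three toBar)

universe u

variable {G : Type u} [Group G] [Finite G]

/-- Isomorphic subgroups have isomorphic quotients by the odd core. -/
noncomputable def barEquiv {H K : Subgroup G} (e : ↥H ≃* ↥K) : Bar H ≃* Bar K :=
  QuotientGroup.congr _ _ e (Cores.pPrimeCore_map_mulEquiv e)

theorem barEquiv_toBar {H K : Subgroup G} (e : ↥H ≃* ↥K) (x : ↥H) :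
    barEquiv e (toBar H x) = toBar K (e x) :=
  QuotientGroup.congr_mk' _ _ e (Cores.pPrimeCore_map_mulEquiv e) x

/-- Conjugation between involution centralisers. -/
theorem exists_cent_equiv {a b g : G} (h : g * a * g⁻¹ = b) :
    ∃ e : ↥(centralizer ({a} : Set G)) ≃* ↥(centralizer ({b} : Set G)),
      ∀ x, (e x : G) = g * x * g⁻¹ := by
  subst h
  have hmap : (centralizer ({a} : Set G)).map (MulAut.conj g).toMonoidHom =
      centralizer ({g * a * g⁻¹} : Set G) := by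
    ext z
    simp only [Subgroup.mem_map, MulEquiv.coe_toMonoidHom, MulAut.conj_apply,
      mem_centralizer_singleton_iff]
    constructor
    · rintro ⟨c, hc, rfl⟩
      calc g * c * g⁻¹ * (g * a * g⁻¹) = g * (c * a) * g⁻¹ := by group
        _ = g * a * g⁻¹ * (g * c * g⁻¹) := by rw [hc]; group
    · intro hz
      refine ⟨g⁻¹ * z * g, ?_, by group⟩
      calc g⁻¹ * z * g * a = g⁻¹ * (z * (g * a * g⁻¹)) * g := by group
        _ = a * (g⁻¹ * z * g) := by rw [hz]; group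
  exact ⟨((MulAut.conj g).subgroupMap _).trans (MulEquiv.subgroupCongr hmap), fun x => rfl⟩

theorem mem_centralizer_map {X Y : Type u} [Group X] [Group Y] (E : X ≃* Y) (L : Subgroup X) :
    (centralizer (L : Set X)).map E.toMonoidHom = centralizer (L.map E.toMonoidHom : Set Y) := by
  ext y
  constructor
  · rintro ⟨x, hx, rfl⟩
    refine mem_centralizer_iff.2 ?_
    rintro _ ⟨l, hl, rfl⟩
    show E l * E x = E x * E l
    rw [← map_mul, ← map_mul, mem_centralizer_iff.1 hx l hl]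
  · intro hy
    refine ⟨E.symm y, mem_centralizer_iff.2 fun l hl => E.injective ?_, E.apply_symm_apply y⟩
    rw [map_mul, map_mul, E.apply_symm_apply]
    exact mem_centralizer_iff.1 hy (E l) ⟨l, hl, rfl⟩

/-- **The rank three setting exists.** -/
theorem exists_three (hd : H88.Walter.ShapeData.{u}) (h : Cfg G) (hno : NoSE G) (hc : HasComp G)
    (h2 : ¬ Cfsg.PRankLE 2 2 G) (h3 : Cfsg.PRankLE 2 3 G) : ∃ S : Sylow 2 G, Three S := by
  classical
  haveI : Fact (Nat.Prime 2) := ⟨Nat.prime_two⟩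
  obtain ⟨S⟩ : Nonempty (Sylow 2 G) := inferInstance
  have hab : ∀ {x y : G}, x ∈ (S : Subgroup G) → y ∈ (S : Subgroup G) → Commute x y :=
    fun hx hy => h.absyl.comm S.isPGroup' hx hy
  have hord : ∀ {x : G}, x * x = 1 → x ≠ 1 → orderOf x = 2 := fun hx hx1 =>
    orderOf_eq_prime (by rw [pow_two]; exact hx) hx1
  -- the involutions of `S`
  let A : Subgroup G :=
    { carrier := {x | x ∈ (S : Subgroup G) ∧ x * x = 1}
      one_mem' := ⟨one_mem _, one_mul 1⟩
      mul_mem' := fun {x y} hx hy => ⟨mul_mem hx.1 hy.1, by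
        calc x * y * (x * y) = x * (y * x) * y := by group
          _ = x * (x * y) * y := by rw [(hab hx.1 hy.1).eq]
          _ = (x * x) * (y * y) := by group
          _ = 1 := by rw [hx.2, hy.2, one_mul]⟩
      inv_mem' := fun {x} hx => ⟨inv_mem hx.1, by rw [← mul_inv_rev, hx.2, inv_one]⟩ }
  have hA8 : Nat.card A = 8 := by
    obtain ⟨A₀, hA₀S, hA₀, hA₀8⟩ := H70.Balanced.exists_eight h2 S
    refine le_antisymm ?_ (hA₀8.trans (card_le_of_le fun x hx => ⟨hA₀S hx, by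
      rw [← pow_two]; exact hA₀.2 x hx⟩))
    have := h3 A ⟨⟨fun x y => Subtype.ext (hab x.2.1 y.2.1).eq⟩⟩
      fun x hx => by rw [pow_two]; exact hx.2
    simpa using this
  -- a component at some `a ∈ A`
  obtain ⟨a, haS, haa, ha1, L, hL⟩ : ∃ a ∈ (S : Subgroup G), a * a = 1 ∧ a ≠ 1 ∧
      ∃ L : Subgroup (Bar (centralizer ({a} : Set G))), Cfsg.IsComponent L := by
    obtain ⟨t, ht, L₀, hL₀⟩ := hc
    obtain ⟨g, hg⟩ := H39.exists_conj_le_sylow
      (IsPGroup.of_card (n := 1) (by rw [Nat.card_zpowers, ht, pow_one]) : IsPGroup 2 (zpowers t)) S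
    have hord' : orderOf (g * t * g⁻¹) = 2 := by rw [H39.orderOf_conj, ht]
    obtain ⟨e, -⟩ := exists_cent_equiv (a := t) (b := g * t * g⁻¹) (g := g) rfl
    exact ⟨_, hg t (mem_zpowers t), H39.mul_self_of_orderOf_eq_two hord',
      H39.ne_one_of_orderOf_eq_two hord', _, Components.component_map_equiv (barEquiv e) hL₀⟩
  set C := centralizer ({a} : Set G) with hC
  have hSC : (S : Subgroup G) ≤ C := fun x hx => mem_centralizer_singleton_iff.2 (hab hx haS).eq
  have hCtop : C ≠ ⊤ := h.centralizer_ne_top ha1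
  set m := QuotientGroup.mk' (Cfsg.oddCore ↥C) with hm
  have hinj : ∀ {x : G} (hx : x ∈ (S : Subgroup G)), m ⟨x, hSC hx⟩ = 1 → x = 1 := by
    intro x hx e
    obtain ⟨k, hk⟩ := S.isPGroup' ⟨x, hx⟩
    have hxk : x ^ 2 ^ k = 1 := congrArg Subtype.val hk
    have hodd := (Cores.odd_card_oddCore (G := ↥C)).of_dvd_nat
      (Subgroup.orderOf_dvd_natCard _ ((QuotientGroup.eq_one_iff _).1 e))
    rw [Subgroup.orderOf_mk] at hodd
    exact orderOf_eq_one_iff.1 (Nat.eq_one_of_dvd_coprimes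
      ((Nat.coprime_two_left.2 hodd).pow_left k) (orderOf_dvd_of_pow_eq_one hxk) dvd_rfl)
  have hinj2 : ∀ {x y : G} (hx : x ∈ (S : Subgroup G)) (hy : y ∈ (S : Subgroup G)),
      m ⟨x, hSC hx⟩ = m ⟨y, hSC hy⟩ → x = y := fun {x y} hx hy e => by
    refine mul_inv_eq_one.1 (hinj (mul_mem hx (inv_mem hy)) ?_)
    rw [show (⟨x * y⁻¹, hSC (mul_mem hx (inv_mem hy))⟩ : ↥C) = ⟨x, hSC hx⟩ * ⟨y, hSC hy⟩⁻¹ from rfl,
      map_mul, map_inv, e, mul_inv_cancel]
  have habC := h.absyl_bar C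
  have hOC := H10.Walter.oddCore_bar C
  set T := (S.subtype hSC).mapSurjective (f := m) (QuotientGroup.mk'_surjective _) with hT
  have hmemT : ∀ {x : Bar C}, x ∈ (T : Subgroup (Bar C)) →
      ∃ s : G, ∃ hs : s ∈ (S : Subgroup G), m ⟨s, hSC hs⟩ = x := by
    rintro x ⟨⟨s, hsC⟩, hs, rfl⟩
    exact ⟨s, hs, rfl⟩
  have hmT : ∀ {s : G} (hs : s ∈ (S : Subgroup G)), m ⟨s, hSC hs⟩ ∈ (T : Subgroup (Bar C)) :=
    fun {s} hs => ⟨⟨s, hSC hs⟩, hs, rfl⟩
  have hz : ∀ y : Bar C, Commute (m ⟨a, hSC haS⟩) y := by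
    intro y
    obtain ⟨c, rfl⟩ := QuotientGroup.mk'_surjective (Cfsg.oddCore ↥C) y
    exact Commute.map (show Commute (⟨a, hSC haS⟩ : ↥C) c from
      Subtype.ext (mem_centralizer_singleton_iff.1 c.2).symm) m
  obtain ⟨hsimp, hna⟩ := h.component_simple_bar C hL
  have hLZ : ∀ z ∈ L, z ∈ centralizer (L : Set (Bar C)) → z = 1 := by
    intro z hzL hzC
    have hmem : (⟨z, hzL⟩ : ↥L) ∈ center ↥L := mem_center_iff.2 fun y =>
      Subtype.ext (mem_centralizer_iff.1 hzC y y.2)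
    rw [(hsimp.eq_bot_or_eq_top_of_normal (center ↥L) inferInstance).resolve_right
      (Components.qs_center_ne_top hL.2), mem_bot] at hmem
    exact congrArg Subtype.val hmem
  have hshape := h.component_shape_bar hCtop hL
  obtain ⟨P, hP⟩ : ∃ P : Sylow 2 ↥L, ((T : Subgroup (Bar C)).subgroupOf L : Subgroup ↥L) = P :=
    (Cfsg.Agent.S0542.result 2 L hL.1 T).imp fun _ e => e.symm
  have hgood := hd ↥L hsimp hna (habC.subgroup L) hshape P
  -- the piece and its centraliser in `S`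
  set P₀ := (S : Subgroup G) ⊓ (L.comap m).map C.subtype with hP₀
  have hP₀iff : ∀ {s : G} (hs : s ∈ (S : Subgroup G)), s ∈ P₀ ↔ m ⟨s, hSC hs⟩ ∈ L := by
    intro s hs
    refine ⟨fun hp => ?_, fun hp => ⟨hs, ⟨s, hSC hs⟩, hp, rfl⟩⟩
    obtain ⟨c, hc, hce⟩ := hp.2
    have : c = ⟨s, hSC hs⟩ := Subtype.ext hce
    exact this ▸ hc
  have hP₀sq : ∀ p ∈ P₀, p * p = 1 := by
    intro p hp
    have hmem : (⟨m ⟨p, hSC hp.1⟩, (hP₀iff hp.1).1 hp⟩ : ↥L) ∈ (P : Subgroup ↥L) :=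
      hP.le (hmT hp.1)
    refine hinj (mul_mem hp.1 hp.1) ?_
    rw [show (⟨p * p, hSC (mul_mem hp.1 hp.1)⟩ : ↥C) = ⟨p, hSC hp.1⟩ * ⟨p, hSC hp.1⟩ from rfl,
      map_mul]
    exact congrArg Subtype.val (hgood.sq _ hmem)
  have haP₀ : a ∉ P₀ := fun hp => ha1 (hinj haS (hLZ _ ((hP₀iff haS).1 hp)
    (mem_centralizer_iff.2 fun y _ => (hz y).symm.eq)))
  have hP₀A : P₀ ≤ A := fun p hp => ⟨hp.1, hP₀sq p hp⟩
  have hP4le : Nat.card ↥(P : Subgroup ↥L) ≤ Nat.card P₀ := by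
    refine Nat.card_le_card_of_surjective
      (fun p : P₀ => (⟨⟨m ⟨p, hSC p.2.1⟩, (hP₀iff p.2.1).1 p.2⟩, hP.le (hmT p.2.1)⟩ :
        ↥(P : Subgroup ↥L))) fun q => ?_
    obtain ⟨s, hs, e⟩ := hmemT (hP.ge q.2)
    refine ⟨⟨s, (hP₀iff hs).2 (e.symm ▸ (q : ↥L).2)⟩, Subtype.ext (Subtype.ext e)⟩
  have hP₀4 : Nat.card P₀ = 4 := by
    have hdvd : Nat.card P₀ ∣ 8 := hA8 ▸ card_dvd_of_le hP₀A
    have hlt : Nat.card P₀ ≠ 8 := fun e => haP₀
      ((eq_of_le_of_card_ge hP₀A (by rw [hA8, e])).ge (⟨haS, haa⟩ : a ∈ A))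
    have h4 := hgood.four.trans hP4le
    have hmem : Nat.card P₀ ∈ Nat.divisors 8 := Nat.mem_divisors.2 ⟨hdvd, by norm_num⟩
    rw [show Nat.divisors 8 = {1, 2, 4, 8} by decide] at hmem
    simp only [Finset.mem_insert, Finset.mem_singleton] at hmem
    omega
  have hPSL : IsOddPSL ↥L := isOddPSL_of_four hshape P
    (le_antisymm (hP4le.trans hP₀4.le) hgood.four)
  set R := (S : Subgroup G) ⊓ ((centralizer (L : Set (Bar C))).comap m).map C.subtype with hR
  have hRiff : ∀ {s : G} (hs : s ∈ (S : Subgroup G)),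
      s ∈ R ↔ m ⟨s, hSC hs⟩ ∈ centralizer (L : Set (Bar C)) := by
    intro s hs
    refine ⟨fun hp => ?_, fun hp => ⟨hs, ⟨s, hSC hs⟩, hp, rfl⟩⟩
    obtain ⟨c, hc, hce⟩ := hp.2
    have : c = ⟨s, hSC hs⟩ := Subtype.ext hce
    exact this ▸ hc
  have haR : a ∈ R := (hRiff haS).2 (mem_centralizer_iff.2 fun y _ => (hz y).symm.eq)
  have hPR : ∀ {x : G}, x ∈ P₀ → x ∈ R → x = 1 := fun hp hr =>
    hinj hp.1 (hLZ _ ((hP₀iff hp.1).1 hp) ((hRiff hp.1).1 hr))
  have hdec : ∀ s ∈ (S : Subgroup G), ∃ p ∈ P₀, p * s ∈ R := by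
    intro s hs
    obtain ⟨g, hg, hgc⟩ := H10.Walter.exists_inner habC hOC hL T (hmT hs)
    obtain ⟨p, hp, rfl⟩ := hmemT hg.1
    refine ⟨p, (hP₀iff hp).2 hg.2, (hRiff (mul_mem hp hs)).2 ?_⟩
    have hpi : p⁻¹ = p := inv_eq_of_mul_eq_one_right (hP₀sq p ((hP₀iff hp).2 hg.2))
    have : m ⟨p * s, hSC (mul_mem hp hs)⟩ = m ⟨s, hSC hs⟩ * (m ⟨p, hSC hp⟩)⁻¹ := by
      rw [← map_inv, ← map_mul]
      exact congrArg m (Subtype.ext (show p * s = s * p⁻¹ by rw [hpi, (hab hp hs).eq]))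
    rw [this]
    exact hgc
  -- the rotation of the piece in `C(a)`
  obtain ⟨n₀, hn₀, hn₀a, hn₀P, hn₀cyc⟩ : ∃ n₀ ∈ normalizer ((S : Subgroup G) : Set G),
      n₀ * a * n₀⁻¹ = a ∧ (∀ p ∈ P₀, n₀ * p * n₀⁻¹ ∈ P₀) ∧
      ∀ p ∈ P₀, ∀ q ∈ P₀, p ≠ 1 → q ≠ 1 → ∃ k : ℕ, n₀ ^ k * p * (n₀ ^ k)⁻¹ = q := by
    obtain ⟨y, hy, hycyc⟩ := hgood.cyc
    -- `y` normalises `T`
    have hyT : ∀ z ∈ (T : Subgroup (Bar C)), (y : Bar C) * z * (y : Bar C)⁻¹ ∈ (T : Subgroup (Bar C)) := by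
      intro z hz'
      obtain ⟨s, hs, rfl⟩ := hmemT hz'
      obtain ⟨p, hp, hpr⟩ := hdec s hs
      have hes : m ⟨s, hSC hs⟩ = m ⟨p, hSC hp.1⟩ * m ⟨p * s, hSC (mul_mem hp.1 hs)⟩ := by
        rw [← map_mul]
        exact congrArg m (Subtype.ext (show s = p * (p * s) by rw [← mul_assoc, hP₀sq p hp, one_mul]))
      rw [hes]
      have hc' : (y : Bar C) * m ⟨p * s, hSC (mul_mem hp.1 hs)⟩ * (y : Bar C)⁻¹ =
          m ⟨p * s, hSC (mul_mem hp.1 hs)⟩ := by
        rw [mem_centralizer_iff.1 ((hRiff (mul_mem hp.1 hs)).1 hpr) y y.2, mul_inv_cancel_right]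
      rw [show (y : Bar C) * (m ⟨p, hSC hp.1⟩ * m ⟨p * s, hSC (mul_mem hp.1 hs)⟩) * (y : Bar C)⁻¹ =
        (y : Bar C) * m ⟨p, hSC hp.1⟩ * (y : Bar C)⁻¹ *
          ((y : Bar C) * m ⟨p * s, hSC (mul_mem hp.1 hs)⟩ * (y : Bar C)⁻¹) by group, hc']
      refine mul_mem ?_ (hmT (mul_mem hp.1 hs))
      exact hP.ge ((mem_normalizer_iff.1 hy ⟨_, (hP₀iff hp.1).1 hp⟩).1 (hP.le (hmT hp.1)))
    obtain ⟨g, hg⟩ := QuotientGroup.mk'_surjective (Cfsg.oddCore ↥C) (y : Bar C)
    set K := (T : Subgroup (Bar C)).comap m with hK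
    have hP1 : ((S.subtype hSC : Sylow 2 ↥C) : Subgroup ↥C) ≤ K := fun x hx => ⟨x, hx, rfl⟩
    have hP2 : ((g • S.subtype hSC : Sylow 2 ↥C) : Subgroup ↥C) ≤ K := by
      rintro _ ⟨x, hx, rfl⟩
      show m (g * x * g⁻¹) ∈ (T : Subgroup (Bar C))
      rw [map_mul, map_mul, map_inv, show m g = y from hg]
      exact hyT _ ⟨x, hx, rfl⟩
    obtain ⟨k, hk⟩ := MulAction.exists_smul_eq ↥K ((g • S.subtype hSC).subtype hP2)
      ((S.subtype hSC).subtype hP1)
    set n : ↥C := (k : ↥C) * g with hn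
    have hnS : ∀ s ∈ (S : Subgroup G), (n : G) * s * (n : G)⁻¹ ∈ (S : Subgroup G) := by
      intro s hs
      have hgs : g * ⟨s, hSC hs⟩ * g⁻¹ ∈ K := hP2 ⟨⟨s, hSC hs⟩, hs, rfl⟩
      have hmem : (k * ⟨_, hgs⟩ * k⁻¹ : ↥K) ∈ (((S.subtype hSC).subtype hP1 : Sylow 2 ↥K) : Subgroup ↥K) := by
        rw [← hk]
        exact ⟨⟨_, hgs⟩, ⟨⟨s, hSC hs⟩, hs, rfl⟩, rfl⟩
      have h' : (((k * ⟨_, hgs⟩ * k⁻¹ : ↥K) : ↥C) : G) ∈ (S : Subgroup G) := hmem
      convert h' using 1
      rw [hn]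
      simp [mul_assoc]
    have hnN : (n : G) ∈ normalizer ((S : Subgroup G) : Set G) :=
      Coprime.mem_normalizer_of_map_conj (eq_of_le_of_card_ge
        (by rintro _ ⟨s, hs, rfl⟩; exact hnS s hs) (by rw [Coprime.card_map_conj]))
    have hact : ∀ s (hs : s ∈ (S : Subgroup G)),
        m ⟨(n : G) * s * (n : G)⁻¹, hSC (hnS s hs)⟩ = (y : Bar C) * m ⟨s, hSC hs⟩ * (y : Bar C)⁻¹ := by
      intro s hs
      have hzT := hyT _ (hmT hs)
      rw [show (⟨(n : G) * s * (n : G)⁻¹, hSC (hnS s hs)⟩ : ↥C) = n * ⟨s, hSC hs⟩ * n⁻¹ from rfl,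
        hn, map_mul, map_mul, map_inv, map_mul, show m g = y from hg, mul_inv_rev]
      calc m k * y * m ⟨s, hSC hs⟩ * ((y : Bar C)⁻¹ * (m k)⁻¹)
          = m k * (y * m ⟨s, hSC hs⟩ * (y : Bar C)⁻¹) * (m k)⁻¹ := by group
        _ = _ := by rw [(habC.comm T.isPGroup' k.2 hzT).eq, mul_inv_cancel_right]
    have hnP : ∀ p ∈ P₀, (n : G) * p * (n : G)⁻¹ ∈ P₀ := by
      intro p hp
      rw [hP₀iff (hnS p hp.1), hact p hp.1]
      exact mul_mem (mul_mem y.2 ((hP₀iff hp.1).1 hp)) (inv_mem y.2)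
    refine ⟨n, hnN, by rw [mem_centralizer_singleton_iff.1 n.2, mul_inv_cancel_right], hnP, ?_⟩
    intro p hp q hq hp1 hq1
    obtain ⟨j, hj⟩ := hycyc ⟨_, (hP₀iff hp.1).1 hp⟩ (hP.le (hmT hp.1)) ⟨_, (hP₀iff hq.1).1 hq⟩
      (hP.le (hmT hq.1)) (fun e => hp1 (hinj hp.1 (congrArg Subtype.val e)))
      (fun e => hq1 (hinj hq.1 (congrArg Subtype.val e)))
    have key : ∀ i : ℕ, ∃ hm' : (n : G) ^ i * p * ((n : G) ^ i)⁻¹ ∈ (S : Subgroup G),
        m ⟨_, hSC hm'⟩ = (y : Bar C) ^ i * m ⟨p, hSC hp.1⟩ * ((y : Bar C) ^ i)⁻¹ := by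
      intro i
      induction i with
      | zero =>
        refine ⟨?_, ?_⟩
        · rw [pow_zero, one_mul, inv_one, mul_one]; exact hp.1
        · simp
      | succ i ih =>
        obtain ⟨hm', e⟩ := ih
        have e' : (n : G) ^ (i + 1) * p * ((n : G) ^ (i + 1))⁻¹ =
            (n : G) * ((n : G) ^ i * p * ((n : G) ^ i)⁻¹) * (n : G)⁻¹ := by rw [pow_succ']; group
        refine ⟨e' ▸ hnS _ hm', ?_⟩
        calc m ⟨_, hSC (e' ▸ hnS _ hm')⟩ = m ⟨_, hSC (hnS _ hm')⟩ := congrArg m (Subtype.ext e')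
          _ = _ := by rw [hact _ hm', e, pow_succ']; group
    obtain ⟨hm', e⟩ := key j
    refine ⟨j, hinj2 hm' hq.1 (e.trans ?_)⟩
    simpa using congrArg Subtype.val hj
  -- `N(S)` moves `a`
  obtain ⟨n₁, hn₁, hn₁a⟩ : ∃ n ∈ normalizer ((S : Subgroup G) : Set G), n * a * n⁻¹ ≠ a := by
    by_contra hno
    push Not at hno
    have hiso : ∀ g : G, g * a * g⁻¹ ∈ S → g * a * g⁻¹ = a := by
      intro g hg
      obtain ⟨n, hn, e⟩ := Fusion.burnside_fusion_centralizer S (x := a) (g := g)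
        (mem_centralizer_iff.2 fun y hy => (hab hy haS).eq)
        (mem_centralizer_iff.2 fun y hy => (hab hy hg).eq)
      exact e.symm.trans (hno n hn)
    have hz' := Cores.glaubermanZStar S (hord haa ha1) haS hiso
    refine hCtop ((eq_top_iff' C).2 fun g => mem_centralizer_singleton_iff.2 ?_)
    have := hz' g
    rw [h.oddCore_eq_bot, mem_bot] at this
    exact (mul_inv_eq_iff_eq_mul.1 (mul_inv_eq_one.1 this)).symm
  -- so `S` is elementary
  have hnconj : ∀ {n x : G}, n ∈ normalizer ((S : Subgroup G) : Set G) → x ∈ (S : Subgroup G) →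
      n * x * n⁻¹ ∈ (S : Subgroup G) := fun hn hx => (mem_normalizer_iff.1 hn _).1 hx
  have hRinv : ∀ {x : G}, x ∈ R → x * x = 1 → x = 1 ∨ x = a := by
    intro x hx hxx
    by_contra hno
    push Not at hno
    let F : ↥P₀ × Fin 3 → ↥A := fun q => ⟨(q.1 : G) * ![1, a, x] q.2, mul_mem (hP₀A q.1.2) (by
      rcases q with ⟨q, i⟩
      fin_cases i
      · exact one_mem _
      · exact ⟨haS, haa⟩
      · exact ⟨hx.1, hxx⟩)⟩
    have hmemR : ∀ i : Fin 3, ![1, a, x] i ∈ R := fun i => by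
      fin_cases i
      · exact one_mem _
      · exact haR
      · exact hx
    have hF : Function.Injective F := by
      rintro ⟨p, i⟩ ⟨q, j⟩ e
      have e1 : (p : G) * ![1, a, x] i = q * ![1, a, x] j := congrArg Subtype.val e
      have e2 : (q : G)⁻¹ * p = ![1, a, x] j * (![1, a, x] i)⁻¹ := by
        rw [eq_mul_inv_iff_mul_eq, mul_assoc, e1, inv_mul_cancel_left]
      have e3 : (q : G)⁻¹ * p = 1 :=
        hPR (mul_mem (inv_mem q.2) p.2) (e2 ▸ mul_mem (hmemR j) (inv_mem (hmemR i)))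
      have e4 : (p : G) = q := (inv_mul_eq_one.1 e3).symm
      rw [e4] at e1
      have e5 := mul_left_cancel e1
      refine Prod.ext (Subtype.ext e4) ?_
      fin_cases i <;> fin_cases j <;>
        simp [ha1, Ne.symm ha1, hno.1, Ne.symm hno.1, hno.2, Ne.symm hno.2] at e5 ⊢
    have := Nat.card_le_card_of_injective F hF
    rw [Nat.card_prod, hP₀4, Nat.card_fin, hA8] at this
    omega
  have hsq : ∀ x ∈ (S : Subgroup G), x * x = 1 := by
    by_contra hno
    push Not at hno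
    obtain ⟨x, hx, hxx⟩ := hno
    have hR2 : ∀ s ∈ (S : Subgroup G), s * s ∈ R := by
      intro s hs
      obtain ⟨p, hp, hps⟩ := hdec s hs
      have e : s * s = (p * s) * (p * s) := by
        calc s * s = p * p * (s * s) := by rw [hP₀sq p hp, one_mul]
          _ = p * (p * s) * s := by group
          _ = p * (s * p) * s := by rw [(hab hp.1 hs).eq]
          _ = (p * s) * (p * s) := by group
      rw [e]
      exact mul_mem hps hps
    obtain ⟨k, hk⟩ := S.isPGroup' ⟨x, hx⟩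
    have hxk : x ^ 2 ^ k = 1 := congrArg Subtype.val hk
    obtain ⟨j, hj, hjk⟩ := (Nat.dvd_prime_pow Nat.prime_two).1 (orderOf_dvd_of_pow_eq_one hxk)
    obtain ⟨i, rfl⟩ : ∃ i, j = i + 2 := by
      refine ⟨j - 2, ?_⟩
      by_contra hne
      refine hxx ?_
      rw [← pow_two]
      exact orderOf_dvd_iff_pow_eq_one.1 (hjk ▸ pow_dvd_pow 2 (show j ≤ 1 by omega) |>.trans
        (by norm_num))
    set r := x ^ 2 ^ i with hr
    have hrS : r ∈ (S : Subgroup G) := pow_mem hx _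
    have hq1 : r * r ≠ 1 := fun e => by
      rw [hr, ← pow_add, ← two_mul, ← pow_succ', ← orderOf_dvd_iff_pow_eq_one, hjk,
        Nat.pow_dvd_pow_iff_le_right (by norm_num)] at e
      omega
    have hq2 : r * r * (r * r) = 1 := by
      rw [hr, ← pow_add, ← pow_add, ← orderOf_dvd_iff_pow_eq_one, hjk]
      exact dvd_of_eq (by ring)
    have hqa : r * r = a := (hRinv (hR2 r hrS) hq2).resolve_left hq1
    have hn1r := hnconj hn₁ hrS
    have e1 : n₁ * a * n₁⁻¹ = n₁ * r * n₁⁻¹ * (n₁ * r * n₁⁻¹) := by rw [← hqa]; group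
    refine hn₁a ((hRinv (e1 ▸ hR2 _ hn1r) ?_).resolve_left fun e => ha1 (conj_eq_one_iff.1 e))
    calc n₁ * a * n₁⁻¹ * (n₁ * a * n₁⁻¹) = n₁ * (a * a) * n₁⁻¹ := by group
      _ = 1 := by rw [haa]; group
  have hSA : (S : Subgroup G) = A := le_antisymm (fun x hx => ⟨hx, hsq x hx⟩) fun x hx => hx.1
  have hS8 : Nat.card ↥(S : Subgroup G) = 8 := hSA ▸ hA8
  have hclass : ∀ x ∈ (S : Subgroup G), x ∈ P₀ ∨ a * x ∈ P₀ := by
    intro x hx
    obtain ⟨p, hp, hpx⟩ := hdec x hx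
    have hpi : ∀ y : G, p * (p * y) = y := fun y => by rw [← mul_assoc, hP₀sq p hp, one_mul]
    rcases hRinv hpx (hsq _ (mul_mem hp.1 hx)) with e | e
    · refine Or.inl ?_
      rw [show x = p by rw [← hpi x, e, mul_one]]
      exact hp
    · refine Or.inr ?_
      rw [show x = p * a by rw [← hpi x, e], ← mul_assoc, (hab haS hp.1).eq, mul_assoc, haa, mul_one]
      exact hp
  -- the orbit of `a` under `N(S)`
  set N := normalizer ((S : Subgroup G) : Set G) with hN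
  let O : Set G := {x | ∃ n ∈ N, n * a * n⁻¹ = x}
  have hOmul : ∀ x ∈ O, ∀ n ∈ N, n * x * n⁻¹ ∈ O := by
    rintro _ ⟨k, hk, rfl⟩ n hn
    exact ⟨n * k, mul_mem hn hk, by group⟩
  have hOS : ∀ x ∈ O, x ∈ (S : Subgroup G) ∧ x ≠ 1 := by
    rintro _ ⟨k, hk, rfl⟩
    exact ⟨hnconj hk haS, fun e => ha1 (conj_eq_one_iff.1 e)⟩
  have haO : a ∈ O := ⟨1, one_mem _, by simp⟩
  have hpow : ∀ k : ℕ, n₀ ^ k ∈ N := fun k => pow_mem hn₀ k
  have hn₀pow : ∀ k : ℕ, n₀ ^ k * a * (n₀ ^ k)⁻¹ = a := by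
    intro k
    induction k with
    | zero => simp
    | succ k ih =>
      rw [pow_succ', show n₀ * n₀ ^ k * a * (n₀ * n₀ ^ k)⁻¹ = n₀ * (n₀ ^ k * a * (n₀ ^ k)⁻¹) * n₀⁻¹
        by group, ih, hn₀a]
  have hOP : ∀ p ∈ P₀, p ≠ 1 → p ∈ O → ∀ q ∈ P₀, q ≠ 1 → q ∈ O := by
    intro p hp hp1 hpO q hq hq1
    obtain ⟨k, hk⟩ := hn₀cyc p hp q hq hp1 hq1
    exact hk ▸ hOmul p hpO _ (hpow k)
  have hOQ : ∀ p ∈ P₀, p ≠ 1 → a * p ∈ O → ∀ q ∈ P₀, q ≠ 1 → a * q ∈ O := by
    intro p hp hp1 hpO q hq hq1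
    obtain ⟨k, hk⟩ := hn₀cyc p hp q hq hp1 hq1
    have := hOmul _ hpO _ (hpow k)
    rwa [show n₀ ^ k * (a * p) * (n₀ ^ k)⁻¹ = n₀ ^ k * a * (n₀ ^ k)⁻¹ * (n₀ ^ k * p * (n₀ ^ k)⁻¹)
      by group, hn₀pow, hk] at this
  have hodd : Odd (Nat.card O) := by
    letI : MulAction ↥N G := MulAction.compHom G (MulAut.conj.comp N.subtype : ↥N →* MulAut G)
    have hOrb : MulAction.orbit ↥N a = O := by
      ext y
      exact ⟨fun ⟨n, hn⟩ => ⟨n, n.2, hn⟩, fun ⟨n, hn, e⟩ => ⟨⟨n, hn⟩, e⟩⟩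
    rw [← hOrb, Nat.card_congr (MulAction.orbitEquivQuotientStabilizer ↥N a)]
    have hle : (S : Subgroup G).subgroupOf N ≤ MulAction.stabilizer ↥N a := by
      intro n hn
      show (n : G) * a * (n : G)⁻¹ = a
      exact mul_inv_eq_iff_eq_mul.2 (hab (show (n : G) ∈ (S : Subgroup G) from hn) haS).eq
    rw [← Subgroup.index_eq_card]
    refine Odd.of_dvd_nat ?_ (index_dvd_of_le hle)
    exact Nat.odd_iff.2 (Nat.two_dvd_ne_zero.1
      (S.subtype (le_normalizer : (S : Subgroup G) ≤ N) : Sylow 2 ↥N).not_dvd_index)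
  have hPcard : Set.ncard ((P₀ : Set G) \ {1}) = 3 := by
    rw [Set.ncard_sdiff_singleton_of_mem (one_mem P₀), ← Nat.card_coe_set_eq]
    simp only [SetLike.coe_sort_coe]
    rw [hP₀4]
  have hall : ∀ x ∈ (S : Subgroup G), x ≠ 1 → x ∈ O := by
    have hboth : (∃ p ∈ P₀, p ≠ 1 ∧ p ∈ O) ∧ (∃ p ∈ P₀, p ≠ 1 ∧ a * p ∈ O) := by
      have hn1O : n₁ * a * n₁⁻¹ ∈ O := ⟨n₁, hn₁, rfl⟩
      obtain ⟨hu, hu1⟩ := hOS _ hn1O
      by_contra hno
      have hcard : Nat.card O = 4 := by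
        rcases hclass _ hu with hv | hv
        · have hnQ : ∀ p ∈ P₀, p ≠ 1 → a * p ∉ O := fun p hp hp1 hpO =>
            hno ⟨⟨_, hv, hu1, hn1O⟩, p, hp, hp1, hpO⟩
          have e : O = insert a ((P₀ : Set G) \ {1}) := by
            ext y
            refine ⟨fun hy => ?_, ?_⟩
            · obtain ⟨hyS, hy1⟩ := hOS y hy
              rcases hclass y hyS with h' | h'
              · exact Or.inr ⟨h', hy1⟩
              · refine Or.inl ?_
                by_contra hya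
                refine hnQ _ h' (fun e => hya ?_) (by rwa [← mul_assoc, haa, one_mul])
                rw [← inv_eq_of_mul_eq_one_right e, inv_eq_of_mul_eq_one_right haa]
            · rintro (rfl | ⟨hp, hp1⟩)
              · exact haO
              · exact hOP _ hv hu1 hn1O y hp hp1
          rw [e, Nat.card_coe_set_eq, Set.ncard_insert_of_notMem (fun hh => haP₀ hh.1), hPcard]
        · have hv1 : a * (n₁ * a * n₁⁻¹) ≠ 1 := fun e => hn₁a (by
            rw [← inv_eq_of_mul_eq_one_right e, inv_eq_of_mul_eq_one_right haa])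
          have hvO : a * (a * (n₁ * a * n₁⁻¹)) ∈ O := by rwa [← mul_assoc, haa, one_mul]
          have hnP : ∀ p ∈ P₀, p ≠ 1 → p ∉ O := fun p hp hp1 hpO =>
            hno ⟨⟨p, hp, hp1, hpO⟩, _, hv, hv1, hvO⟩
          have e : O = insert a ((a * ·) '' ((P₀ : Set G) \ {1})) := by
            ext y
            refine ⟨fun hy => ?_, ?_⟩
            · obtain ⟨hyS, hy1⟩ := hOS y hy
              rcases hclass y hyS with h' | h'
              · exact absurd hy (hnP y h' hy1)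
              · by_cases hya : y = a
                · exact Or.inl hya
                refine Or.inr ⟨a * y, ⟨h', fun e => hya ?_⟩, by simp [← mul_assoc, haa]⟩
                have e' : a * y = 1 := e
                rw [← inv_eq_of_mul_eq_one_right e', inv_eq_of_mul_eq_one_right haa]
            · rintro (rfl | ⟨p, ⟨hp, hp1⟩, rfl⟩)
              · exact haO
              · exact hOQ _ hv hv1 hvO p hp hp1
          have hnm : a ∉ ((a * ·) '' ((P₀ : Set G) \ {1})) := by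
            rintro ⟨p, hp, e'⟩
            exact hp.2 (mul_eq_left.1 e')
          rw [e, Nat.card_coe_set_eq, Set.ncard_insert_of_notMem hnm,
            Set.ncard_image_of_injective _ (mul_right_injective a), hPcard]
      rw [hcard] at hodd
      exact absurd hodd (by decide)
    obtain ⟨⟨p, hp, hp1, hpO⟩, q, hq, hq1, hqO⟩ := hboth
    intro x hx hx1
    rcases hclass x hx with h' | h'
    · exact hOP p hp hp1 hpO x h' hx1
    · by_cases hxa : a * x = 1
      · rw [← inv_eq_of_mul_eq_one_right hxa, inv_eq_of_mul_eq_one_right haa]; exact haO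
      · have := hOQ q hq hq1 hqO _ h' hxa
        rwa [← mul_assoc, haa, one_mul] at this
  have htrans : ∀ x ∈ (S : Subgroup G), ∀ y ∈ (S : Subgroup G), x ≠ 1 → y ≠ 1 →
      ∃ g ∈ N, g * x * g⁻¹ = y := by
    intro x hx y hy hx1 hy1
    obtain ⟨g, hg, rfl⟩ := hall x hx hx1
    obtain ⟨k, hk, rfl⟩ := hall y hy hy1
    exact ⟨k * g⁻¹, mul_mem hk (inv_mem hg), by group⟩
  have hfix : ∀ x ∈ (S : Subgroup G), Commute n₀ x → x ∈ zpowers a := by
    intro x hx hxc
    obtain ⟨v, hv, hvc, hvx⟩ : ∃ v ∈ P₀, Commute n₀ v ∧ (x = v ∨ x = a * v) := by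
      rcases hclass x hx with h' | h'
      · exact ⟨x, h', hxc, Or.inl rfl⟩
      · exact ⟨a * x, h', (show Commute n₀ a from mul_inv_eq_iff_eq_mul.1 hn₀a).mul_right hxc,
          Or.inr (by rw [← mul_assoc, haa, one_mul])⟩
    have hv1 : v = 1 := by
      by_contra hv1
      have hle : (P₀ : Set G) \ {1} ⊆ {v} := fun q hq => by
        obtain ⟨k, hk⟩ := hn₀cyc v hv q hq.1 hv1 hq.2
        rw [(hvc.pow_left k).eq, mul_inv_cancel_right] at hk
        exact hk.symm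
      have := Set.ncard_le_ncard hle
      rw [hPcard, Set.ncard_singleton] at this
      omega
    rcases hvx with rfl | rfl
    · rw [hv1]; exact one_mem _
    · rw [hv1, mul_one]; exact mem_zpowers _
  -- the structure of `C(a) / O(C(a))`
  have hn : L.Normal := by
    refine ⟨fun x hx c => ?_⟩
    have hLc := Components.component_conj hL c
    set L' := L.map (MulAut.conj c).toMonoidHom with hL'
    by_cases e : L' = L
    · exact e ▸ ⟨x, hx, rfl⟩
    exfalso
    have hcc := commutator_eq_bot_iff_le_centralizer.1 (Components.components_commute hLc hL e)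
    have h4 : 4 ≤ Nat.card ↥((T : Subgroup (Bar C)) ⊓ L') := by
      obtain ⟨hs', hn'⟩ := h.component_simple_bar C hLc
      obtain ⟨P', hP'⟩ : ∃ P' : Sylow 2 ↥L', ((T : Subgroup (Bar C)).subgroupOf L' : Subgroup ↥L') = P' :=
        (Cfsg.Agent.S0542.result 2 L' hLc.1 T).imp fun _ e => e.symm
      have := (hd ↥L' hs' hn' (habC.subgroup L') (h.component_shape_bar hCtop hLc) P').four
      rwa [← hP', ← Subgroup.card_map_of_injective L'.subtype_injective, subgroupOf_map_subtype] at this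
    have hR2' : ((T : Subgroup (Bar C)) ⊓ L' : Subgroup (Bar C)) ≤ zpowers (m ⟨a, hSC haS⟩) := by
      rintro z ⟨hzT, hzL⟩
      obtain ⟨s, hs, rfl⟩ := hmemT hzT
      rcases hRinv ((hRiff hs).2 (hcc hzL)) (hsq s hs) with rfl | rfl
      · exact (show m ⟨1, hSC hs⟩ = 1 from map_one m) ▸ one_mem _
      · exact mem_zpowers _
    have := h4.trans (card_le_of_le hR2')
    rw [Nat.card_zpowers] at this
    have h2' : orderOf (m ⟨a, hSC haS⟩) ≤ 2 := Nat.le_of_dvd (by norm_num)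
      (orderOf_dvd_of_pow_eq_one (by
        rw [pow_two, ← map_mul]
        exact (congrArg m (Subtype.ext haa)).trans (map_one m)))
    omega
  have hfit : Cfsg.fittingSubgroup (Bar C) ≤ zpowers (m ⟨a, hSC haS⟩) := by
    intro z hz'
    obtain ⟨s, hs, rfl⟩ := hmemT (Cores.pCore_le_sylow T (Components.fitting_le_pCore (p := 2) hOC hz'))
    have hzC : m ⟨s, hSC hs⟩ ∈ centralizer (L : Set (Bar C)) := mem_centralizer_iff.2 fun l hl =>
      Components.commute_of_commutator_eq_bot Components.layer_commutator_fitting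
        (Components.component_le_layer hL hl) hz'
    rcases hRinv ((hRiff hs).2 hzC) (hsq s hs) with rfl | rfl
    · exact (show m ⟨1, hSC hs⟩ = 1 from map_one m) ▸ one_mem _
    · exact mem_zpowers _
  have hlayer : Cfsg.layer (Bar C) = L := by
    refine le_antisymm (Components.layer_le_iff.mpr fun K hK => ?_) (Components.component_le_layer hL)
    by_contra hKL
    have hcc := commutator_eq_bot_iff_le_centralizer.1
      (Components.components_commute hK hL fun e => hKL e.le)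
    obtain ⟨hs', hn'⟩ := h.component_simple_bar C hK
    obtain ⟨P', hP'⟩ : ∃ P' : Sylow 2 ↥K, ((T : Subgroup (Bar C)).subgroupOf K : Subgroup ↥K) = P' :=
      (Cfsg.Agent.S0542.result 2 K hK.1 T).imp fun _ e => e.symm
    have h4 := (hd ↥K hs' hn' (habC.subgroup K) (h.component_shape_bar hCtop hK) P').four
    rw [← hP', ← Subgroup.card_map_of_injective K.subtype_injective, subgroupOf_map_subtype] at h4
    have hR2' : ((T : Subgroup (Bar C)) ⊓ K : Subgroup (Bar C)) ≤ zpowers (m ⟨a, hSC haS⟩) := by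
      rintro z ⟨hzT, hzK⟩
      obtain ⟨s, hs, rfl⟩ := hmemT hzT
      rcases hRinv ((hRiff hs).2 (hcc hzK)) (hsq s hs) with rfl | rfl
      · exact (show m ⟨1, hSC hs⟩ = 1 from map_one m) ▸ one_mem _
      · exact mem_zpowers _
    have := h4.trans (card_le_of_le hR2')
    rw [Nat.card_zpowers] at this
    have h2' : orderOf (m ⟨a, hSC haS⟩) ≤ 2 := Nat.le_of_dvd (by norm_num)
      (orderOf_dvd_of_pow_eq_one (by
        rw [pow_two, ← map_mul]
        exact (congrArg m (Subtype.ext haa)).trans (map_one m)))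
    omega
  have hafit : zpowers (m ⟨a, hSC haS⟩) ≤ Cfsg.fittingSubgroup (Bar C) := by
    have hnorm : (zpowers (m ⟨a, hSC haS⟩)).Normal := ⟨fun z hz' c => by
      obtain ⟨i, rfl⟩ := mem_zpowers_iff.1 hz'
      rw [← ((hz c).zpow_left i).eq, mul_inv_cancel_right]
      exact zpow_mem (mem_zpowers _) i⟩
    have hp : IsPGroup 2 (zpowers (m ⟨a, hSC haS⟩)) := by
      refine IsPGroup.of_card (n := 1) ?_
      rw [Nat.card_zpowers, pow_one]
      exact orderOf_eq_prime (by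
        rw [pow_two, ← map_mul]
        exact (congrArg m (Subtype.ext haa)).trans (map_one m)) fun e => ha1 (hinj haS e)
    exact (Components.le_pCore hnorm hp).trans (Components.pCore_le_fitting 2)
  have hFit : Cfsg.fittingSubgroup (Bar C) = zpowers (m ⟨a, hSC haS⟩) := le_antisymm hfit hafit
  have hF : Cfsg.generalizedFittingSubgroup (Bar C) = zpowers (m ⟨a, hSC haS⟩) ⊔ L := by
    rw [Components.genFitting_eq_sup, hlayer, hFit, sup_comm]
  have hCL : centralizer (L : Set (Bar C)) = zpowers (m ⟨a, hSC haS⟩) := by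
    refine le_antisymm (fun z hz' => ?_) (zpowers_le.2 (mem_centralizer_iff.2 fun y _ => (hz y).symm.eq))
    have hmem : z ∈ Cfsg.generalizedFittingSubgroup (Bar C) :=
      Components.centralizer_genFitting_le (mem_centralizer_iff.2 fun w hw => by
        rw [hF, SetLike.mem_coe, mem_sup_of_normal_right] at hw
        obtain ⟨u, hu, l, hl, rfl⟩ := hw
        obtain ⟨i, rfl⟩ := mem_zpowers_iff.1 hu
        rw [mul_assoc, mem_centralizer_iff.1 hz' l hl, ← mul_assoc, ((hz z).zpow_left i).eq,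
          mul_assoc])
    rw [hF, mem_sup_of_normal_right] at hmem
    obtain ⟨u, hu, l, hl, rfl⟩ := hmem
    have hl1 : l = 1 := hLZ l hl (by
      have hu' : u ∈ centralizer (L : Set (Bar C)) :=
        (zpowers_le.2 (mem_centralizer_iff.2 fun y _ => (hz y).symm.eq)) hu
      simpa using mul_mem (inv_mem hu') hz')
    rw [hl1, mul_one]
    exact hu
  refine ⟨S, ⟨h, hno, hS8, hsq, htrans, ?_, ?_⟩⟩
  · intro x hx hx1
    obtain ⟨g, hg, rfl⟩ := hall x hx hx1
    refine ⟨g * n₀ * g⁻¹, mul_mem (mul_mem hg hn₀) (inv_mem hg),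
      ((show Commute n₀ a from mul_inv_eq_iff_eq_mul.1 hn₀a).map (MulAut.conj g).toMonoidHom),
      fun y hy hyc => ?_⟩
    have hy' : g⁻¹ * y * g ∈ (S : Subgroup G) := by
      simpa [mul_assoc] using hnconj (inv_mem hg) hy
    have hc' : Commute n₀ (g⁻¹ * y * g) := by
      have := hyc.map (MulAut.conj g⁻¹).toMonoidHom
      simp only [MulEquiv.coe_toMonoidHom, MulAut.conj_apply, inv_inv] at this
      rwa [show g⁻¹ * (g * n₀ * g⁻¹) * g = n₀ by group] at this
    obtain ⟨i, hi⟩ := mem_zpowers_iff.1 (hfix _ hy' hc')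
    refine mem_zpowers_iff.2 ⟨i, ?_⟩
    rw [conj_zpow, hi]
    group
  · intro b hb hbC
    obtain ⟨g, hg⟩ := H39.exists_conj_le_sylow
      (IsPGroup.of_card (n := 1) (by rw [Nat.card_zpowers, hb, pow_one]) : IsPGroup 2 (zpowers b)) S
    obtain ⟨k, -, hk⟩ := htrans a haS (g * b * g⁻¹) (hg b (mem_zpowers b)) ha1 fun e =>
      H39.ne_one_of_orderOf_eq_two hb (conj_eq_one_iff.1 e)
    have hab' : (g⁻¹ * k) * a * (g⁻¹ * k)⁻¹ = b := by
      rw [show (g⁻¹ * k) * a * (g⁻¹ * k)⁻¹ = g⁻¹ * (k * a * k⁻¹) * g by group, hk]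
      group
    obtain ⟨e, he⟩ := exists_cent_equiv hab'
    set E := barEquiv e with hE
    have hEa : E (m ⟨a, hSC haS⟩) = toBar (centralizer ({b} : Set G)) ⟨b, hbC⟩ := by
      refine (barEquiv_toBar e _).trans (congrArg _ (Subtype.ext ?_))
      rw [he]
      exact hab'
    have hzp : (zpowers (m ⟨a, hSC haS⟩)).map E.toMonoidHom =
        zpowers (toBar (centralizer ({b} : Set G)) ⟨b, hbC⟩) := by
      rw [MonoidHom.map_zpowers]
      exact congrArg zpowers hEa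
    refine ⟨L.map E.toMonoidHom, Components.component_map_equiv E hL, ?_, ?_, ?_⟩
    · obtain ⟨F, iF, iF', h5, h8, ⟨f⟩⟩ := hPSL
      exact ⟨F, iF, iF', h5, h8, ⟨(L.equivMapOfInjective E.toMonoidHom E.injective).symm.trans f⟩⟩
    · rw [← mem_centralizer_map, hCL, hzp]
    · rw [← Components.map_genFitting_equiv E, hF, Subgroup.map_sup, hzp]

end Cfsg.Agent.H57.Walter
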