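import Cfsg.Agent.H57.Walter.ThreeOfCfg
import Cfsg.Agent.H77.Walter.CaseOne

/-!
# Walter programme: the cores step in rank three
-/

set_option autoImplicit false
set_option linter.style.haveILetI false

namespace Cfsg.Agent.H57.Walter

open Subgroup Cfsg.Agent

universe u

/-- The cores step in rank three, given the data of the pieces. -/
theorem coresStepThree (hd : H88.Walter.ShapeData.{u}) : H10.Walter.CoresStepThree.{u} := by
  intro G _ _ h hno hc h2 h3 x hx
  obtain ⟨S, hT⟩ := exists_three hd h hno hc h2 h3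
  by_contra hne
  haveI : Fact (Nat.Prime 2) := ⟨Nat.prime_two⟩
  -- move `x` into `S`
  obtain ⟨g, hg⟩ := H39.exists_conj_le_sylow
    (IsPGroup.of_card (n := 1) (by rw [Nat.card_zpowers, hx, pow_one]) : IsPGroup 2 (zpowers x)) S
  have htS : g * x * g⁻¹ ∈ (S : Subgroup G) := hg x (mem_zpowers x)
  have ht1 : g * x * g⁻¹ ≠ 1 := fun e => H39.ne_one_of_orderOf_eq_two hx (conj_eq_one_iff.1 e)
  have hne' : Cfsg.oddCore ↥(centralizer ({g * x * g⁻¹} : Set G)) ≠ ⊥ := by
    intro e
    obtain ⟨φ, -⟩ := exists_cent_equiv (a := x) (b := g * x * g⁻¹) (g := g) rfl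
    have hm := Cores.pPrimeCore_map_mulEquiv (p := 2) φ
    change (Cfsg.oddCore _).map _ = Cfsg.oddCore _ at hm
    rw [e, Subgroup.map_eq_bot_iff_of_injective _ φ.injective] at hm
    exact hne hm
  exact false_caseTwo_three hT hd htS ht1
    (H77.Walter.Three.not_isCoatom_centralizer hT htS ht1 hne')

end Cfsg.Agent.H57.Walter
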